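import Cfsg.Agent.PSLThreeSub.OrthIso
import Cfsg.Agent.DicksonPSL2.PGLTools
import Cfsg.Agent.DicksonPSL2.Orders
import Cfsg.Agent.S0253

/-!
# The orthogonal case of the subgroup list of `PSL₃(q)`

A subgroup without abelian normal subgroups of `PGL₂(q₀)` is `A₅`, `PSL₂` or `PGL₂` of a subfield.
-/

set_option autoImplicit false
set_option linter.unusedSectionVars false

open scoped MatrixGroups

namespace CfsgLib.PSLThreeSub

open Matrix Cfsg.Geo CfsgLib.DicksonPSL2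
open CfsgLib.Aschbacher hiding tv
open scoped commutatorElement

/-- The group modulo scalars of a group with a core is not solvable. -/
theorem Red.not_solvable {E : Type*} [Field E] [Finite E] {H P : Subgroup (GL (Fin 3) E)} (hr : Red H P) :
    ¬ Group.IsSolvable (Cfsg.projQuot H) := fun hsol => by
  classical
  haveI : Group.IsSolvable ((scalars (Fin 3) E).subgroupOf H) := Group.isSolvable_of_comm fun a b =>
    Subtype.ext (Subtype.ext (scalars_comm' (Subgroup.mem_subgroupOf.1 a.2)))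
  let π := QuotientGroup.mk' ((scalars (Fin 3) E).subgroupOf H)
  haveI : Group.IsSolvable H := Group.isSolvable_of_ker_le_range
    ((scalars (Fin 3) E).subgroupOf H).subtype π (by rw [QuotientGroup.ker_mk', Subgroup.range_subtype])
  have h1 := hr.sub.noSolv le_rfl (fun g hg x hx => mul_mem (mul_mem hg hx) (inv_mem hg)) inferInstance
  exact hr.sub.ne h1

/-- The degree of a subfield group divides that of the field. -/
theorem dvd_of_order {p a γ : ℕ} (hp : p.Prime) (hp2 : p ≠ 2) (ha : a ≠ 0)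
    (h : p ^ a * (p ^ a - 1) * (p ^ a + 1) ∣ 2 * (p ^ γ * (p ^ γ - 1) * (p ^ γ + 1))) : a ∣ γ := by
  have e : ∀ n, (p ^ n - 1) * (p ^ n + 1) = p ^ (2 * n) - 1 := fun n => by
    rw [mul_comm, ← Nat.sq_sub_sq, one_pow, ← pow_mul, mul_comm n]
  rw [mul_assoc, e, mul_assoc, e, mul_left_comm] at h
  have hpos : 1 ≤ p ^ (2 * a) := Nat.one_le_pow _ _ hp.pos
  have hco : Nat.Coprime (p ^ (2 * a) - 1) (p ^ γ) := by
    refine Nat.Coprime.pow_right γ (hp.coprime_iff_not_dvd.2 fun hd => ?_).symm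
    have h2 : p ∣ p ^ (2 * a) := dvd_pow_self p (by omega)
    have h3 := Nat.dvd_sub h2 hd
    rw [Nat.sub_sub_self hpos] at h3
    exact hp.one_lt.ne' (Nat.dvd_one.1 h3)
  have h4 : p ^ (2 * a) - 1 ∣ 2 * (p ^ (2 * γ) - 1) := hco.dvd_of_dvd_mul_left ((dvd_mul_left _ _).trans h)
  have hsplit : p ^ (2 * γ) - 1 = p ^ (2 * (γ % a)) * ((p ^ (2 * a)) ^ (γ / a) - 1) + (p ^ (2 * (γ % a)) - 1) := by
    rw [← pow_mul, Nat.mul_sub, mul_one, ← pow_add,
      show 2 * (γ % a) + 2 * a * (γ / a) = 2 * γ by rw [mul_assoc, ← mul_add, Nat.mod_add_div]]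
    have h5 : p ^ (2 * (γ % a)) ≤ p ^ (2 * γ) := Nat.pow_le_pow_right hp.pos (by have := Nat.mod_le γ a; omega)
    have h6 : 1 ≤ p ^ (2 * (γ % a)) := Nat.one_le_pow _ _ hp.pos
    omega
  have h7 : p ^ (2 * a) - 1 ∣ 2 * (p ^ (2 * (γ % a)) - 1) := by
    rw [hsplit, mul_add] at h4
    refine (Nat.dvd_add_right (dvd_mul_of_dvd_right (dvd_mul_of_dvd_right ?_ _) _)).1 h4
    simpa using Nat.sub_dvd_pow_sub_pow (p ^ (2 * a)) 1 (γ / a)
  refine Nat.dvd_of_mod_eq_zero (by_contra fun hne => ?_)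
  have hlt := Nat.mod_lt γ (Nat.pos_of_ne_zero ha)
  have hp3 : 3 ≤ p := by have := hp.two_le; omega
  have h8 : p ^ (2 * (γ % a)) * 9 ≤ p ^ (2 * a) := by
    calc p ^ (2 * (γ % a)) * 9 ≤ p ^ (2 * (γ % a)) * p ^ 2 := Nat.mul_le_mul_left _ (by nlinarith)
      _ = p ^ (2 * (γ % a) + 2) := (pow_add _ _ _).symm
      _ ≤ p ^ (2 * a) := Nat.pow_le_pow_right hp.pos (by omega)
  have h10 : 1 < p ^ (2 * (γ % a)) := Nat.one_lt_pow (by omega) hp.one_lt
  have h9 := Nat.le_of_dvd (by omega) h7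
  omega

theorem mod_ten {q : ℕ} (h : q % 10 = 1 ∨ q % 10 = 9) (m : ℕ) : q ^ m % 10 = 1 ∨ q ^ m % 10 = 9 := by
  induction m with
  | zero => left; norm_num
  | succ m ih =>
    rw [pow_succ, Nat.mul_mod]
    rcases ih with e | e <;> rcases h with h | h <;> rw [e, h] <;> norm_num

variable {F : Type*} [Field F] [Fintype F]

/-- **A quadratic form is fixed.** -/
theorem concl_orth (p α : ℕ) [hp : Fact p.Prime] (hp2 : p ≠ 2) (hF : Fintype.card F = p ^ α)
    (E : Subfield F) [Fintype E] [CharP E p] {H P : Subgroup (GL (Fin 3) E)} (hr : Red H P)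
    (hQ : ∃ Q, Cfsg.Geo.IsNondegenerateQuadraticForm Q ∧ Cfsg.Geo.FixesQuadForm (matrixSet P) Q) :
    Concl p α (Cfsg.projQuot H) := by
  classical
  obtain ⟨γ, hγ, hγα, hE⟩ := exists_degree p α hF E
  have hpodd := hp.out.odd_of_ne_two hp2
  have hodd : Odd (Fintype.card E) := by rw [hE]; exact hpodd.pow
  obtain ⟨j, hj⟩ := exists_pgl_embedding hodd hr hQ
  haveI := finite_PGL (F := E)
  have hdvd : Nat.card (Cfsg.projQuot H) ∣ p ^ γ * (p ^ γ - 1) * (p ^ γ + 1) := by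
    rw [← hE, ← card_PGL_two, Nat.card_congr (MonoidHom.ofInjective hj).toEquiv]
    exact Subgroup.card_subgroup_dvd_card _
  obtain ⟨E₂, iE, iEf, iEp, f, Φ, hΦ, -, -, -, -⟩ := exists_embedding (F := E) p hodd
  obtain ⟨Y, hY⟩ : ∃ Y, Y = (Φ.comp j).range := ⟨_, rfl⟩
  let e : Cfsg.projQuot H ≃* Y :=
    (MonoidHom.ofInjective (f := Φ.comp j) (hΦ.comp hj)).trans (MulEquiv.subgroupCongr hY.symm)
  have hns : ¬ Group.IsSolvable Y := fun h => hr.not_solvable
    (Group.isSolvable_of_isSolvable_injective (f := e.toMonoidHom) e.injective)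
  rcases subgroup_cases_sharp p Y with h | h | ⟨h, -, -⟩ | ⟨h, -, -⟩ | ⟨h, ⟨-, hp5⟩, ⟨g⟩⟩ | h
  · exact absurd h.isSolvable hns
  · exact absurd h.isSolvable hns
  · exact absurd (isSolvable_of_card_twelve (Or.inl h)) hns
  · exact absurd (isSolvable_of_card_twelve (Or.inr h)) hns
  · have h5 : 5 ∣ p ^ γ * (p ^ γ - 1) * (p ^ γ + 1) := by
      refine (show 5 ∣ Nat.card (Cfsg.projQuot H) from ?_).trans hdvd
      rw [Nat.card_congr e.toEquiv, h]; norm_num
    have hP5 : Nat.Prime 5 := by norm_num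
    have hne : ¬ 5 ∣ p ^ γ := fun hd =>
      hp5 ((Nat.prime_dvd_prime_iff_eq hP5 hp.out).1 (hP5.dvd_of_dvd_pow hd)).symm
    have h2 : p ^ γ % 2 = 1 := Nat.odd_iff.1 hpodd.pow
    have hm : p ^ γ % 10 = 1 ∨ p ^ γ % 10 = 9 := by
      rcases (Nat.Prime.dvd_mul hP5).1 h5 with h5 | h5
      · rcases (Nat.Prime.dvd_mul hP5).1 h5 with h5 | h5
        · exact absurd h5 hne
        · omega
      · omega
    obtain ⟨m, rfl⟩ := hγα
    letI : Fintype (ZMod 5) := ZMod.fintype 5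
    haveI : Fact (Nat.Prime 5) := ⟨hP5⟩
    obtain ⟨e5⟩ := Cfsg.Agent.S0253.result (F := ZMod 5) (ZMod.card 5)
    exact Or.inr (Or.inr (Or.inr (Or.inr (Or.inr (Or.inl
      ⟨by rw [pow_mul]; exact mod_ten hm m, ZMod 5, inferInstance, inferInstance, ZMod.card 5,
        ⟨(e.trans g).trans e5.symm⟩⟩)))))
  · obtain ⟨K, iK, iKf, ι, c, w, hc⟩ := h
    haveI : CharP K p := (RingHom.charP_iff ι ι.injective p).2 iEp
    obtain ⟨n, -, hK⟩ := FiniteField.card K p
    have hKodd : Odd (Fintype.card K) := by rw [hK]; exact hpodd.pow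
    have hpgl : Nat.card PGL(2, K) = p ^ (n : ℕ) * (p ^ (n : ℕ) - 1) * (p ^ (n : ℕ) + 1) := by
      rw [card_PGL_two, hK]
    have hpsl : 2 * Nat.card PSL(2, K) = p ^ (n : ℕ) * (p ^ (n : ℕ) - 1) * (p ^ (n : ℕ) + 1) := by
      rw [← hK, ← card_PSL_formula K]
      rcases gcd_two_cases K with ⟨-, hg, -⟩ | ⟨hg, -⟩
      · rw [hg]
      · exact absurd hg (Nat.not_even_iff_odd.2 hKodd)
    obtain ⟨eY⟩ := nonempty_equiv_conjS c Y
    obtain hG | hG : Nonempty (Cfsg.projQuot H ≃* PSL(2, K)) ∨ Nonempty (Cfsg.projQuot H ≃* PGL(2, K)) := by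
      rcases hc with hc | ⟨-, hc⟩
      · exact Or.inl ⟨(e.trans eY).trans ((MulEquiv.subgroupCongr hc).trans
          (MonoidHom.ofInjective (psiS_injective ι w)).symm)⟩
      · exact Or.inr ⟨(e.trans eY).trans (((conjS c Y).equivMapOfInjective _
          ProjectiveSpecialLinearGroup.toPGL_injective).trans ((MulEquiv.subgroupCongr hc).trans
          (MonoidHom.ofInjective (psiP_injective ι w)).symm))⟩
    all_goals obtain ⟨eG⟩ := hG
    · have hd : p ^ (n : ℕ) * (p ^ (n : ℕ) - 1) * (p ^ (n : ℕ) + 1) ∣ 2 * (p ^ γ * (p ^ γ - 1) * (p ^ γ + 1)) := by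
        rw [← hpsl, ← Nat.card_congr eG.toEquiv]
        exact Nat.mul_dvd_mul_left 2 hdvd
      have h3 : p ^ (n : ℕ) ≠ 3 := fun h3 => hns (isSolvable_of_card_twelve (Or.inl (by
        rw [h3] at hpsl
        rw [← Nat.card_congr e.toEquiv, Nat.card_congr eG.toEquiv]
        omega)))
      exact Or.inr (Or.inr (Or.inr (Or.inr (Or.inl ⟨K, iK, iKf, n, hK,
        (dvd_of_order hp.out hp2 n.ne_zero hd).trans hγα, h3, Or.inl ⟨eG⟩⟩))))
    · have hd : p ^ (n : ℕ) * (p ^ (n : ℕ) - 1) * (p ^ (n : ℕ) + 1) ∣ 2 * (p ^ γ * (p ^ γ - 1) * (p ^ γ + 1)) := by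
        rw [← hpgl, ← Nat.card_congr eG.toEquiv]
        exact dvd_mul_of_dvd_right hdvd 2
      have h3 : p ^ (n : ℕ) ≠ 3 := fun h3 => hns (isSolvable_of_card_twelve (Or.inr (by
        rw [h3] at hpgl
        rw [← Nat.card_congr e.toEquiv, Nat.card_congr eG.toEquiv, hpgl])))
      exact Or.inr (Or.inr (Or.inr (Or.inr (Or.inl ⟨K, iK, iKf, n, hK,
        (dvd_of_order hp.out hp2 n.ne_zero hd).trans hγα, h3, Or.inr ⟨eG⟩⟩))))

end CfsgLib.PSLThreeSub
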