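import Cfsg.Agent.PSLThreeSub.Herm
import Cfsg.Agent.PSLThreeSub.Orth
import Cfsg.Agent.PGLThree.Double

/-!
# Assembly of the subgroup list of `PSL₃(q)`, `q` odd

Everything except the groups without transvections, which enter as a hypothesis.
-/

set_option autoImplicit false
set_option linter.unusedSectionVars false

open scoped MatrixGroups

namespace CfsgLib.PSLThreeSub

open Matrix Cfsg.Geo
open CfsgLib.Aschbacher hiding tv

theorem concl_of_small {F : Type*} [Field F] [Fintype F] (p α : ℕ) [hp : Fact p.Prime] (hp2 : p ≠ 2)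
    (hF : Fintype.card F = p ^ α) (H : Subgroup (Matrix.ProjectiveSpecialLinearGroup (Fin 3) F)) (hH : H ≠ ⊥)
    (hab : NoAbelian H)
    (hsmall : ∀ (E : Subfield F) [Fintype E] [CharP E p] (H₁ P : Subgroup (GL (Fin 3) E)),
      Red H₁ P → PGLThree.Ctx P → (∀ v a, ¬ SLThree.Flag P v a) → Concl p α (Cfsg.projQuot H₁)) :
    Concl p α H := by
  classical
  have hodd : Odd (Fintype.card F) := by rw [hF]; exact (hp.out.odd_of_ne_two hp2).pow
  obtain ⟨E, H₁, P, hsub, hcc, hle, hn, hcore, hcent, hgen, ⟨eH⟩⟩ := exists_reduced hodd H hH hab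
  have hr : Red H₁ P := ⟨hsub, hle, hn, hcore, hcent, hgen⟩
  letI : Fintype E := Fintype.ofFinite E
  haveI : CharP F p := charP_of_card_eq_prime_pow hF
  haveI : CharP E p := (RingHom.charP_iff E.subtype E.subtype.injective p).2 inferInstance
  refine Concl.of_equiv ?_ eH.symm
  by_cases hQ : ∃ Q, IsNondegenerateQuadraticForm Q ∧ FixesQuadForm (matrixSet P) Q
  · exact concl_orth p α hp2 hF E hr hQ
  by_cases hroot : ∃ v a : Fin 3 → E, v ≠ 0 ∧ a ≠ 0 ∧ MaxSub.RootIn P v a
  · obtain ⟨v, a, hv, ha, h⟩ := hroot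
    exact concl_root p α hF E hr hcc hv ha h
  have hc : PGLThree.Ctx P := hr.ctx (fun v a hv ha h => hroot ⟨v, a, hv, ha, h⟩) hQ
  have hd : ¬ PGLThree.Double P := fun hd => hp2 (PGLThree.double_cases hc hd).1
  by_cases hflag : ∃ v a, SLThree.Flag P v a
  · obtain ⟨v, a, hfl⟩ := hflag
    exact concl_unitary p α hp2 hF E hr hcc hc hd hfl
  · exact hsmall E H₁ P hr hc fun v a h => hflag ⟨v, a, h⟩

end CfsgLib.PSLThreeSub
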