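import Cfsg.Agent.PSLThreeSub.Goal
import Cfsg.Agent.Linear.Basic
import Cfsg.Agent.SLThree.Basic
import Mathlib.FieldTheory.Finite.GaloisField

/-!
# Subgroups containing the special linear group of the field of traces

The cosets of the image of a classical group in `H` modulo scalars are told apart by the cube class
of the determinant.
-/

set_option autoImplicit false
set_option linter.unusedSectionVars false

namespace CfsgLib.PSLThreeSub

open Matrix Cfsg.Geo CfsgLib.Aschbacher CfsgLib.MaxSub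

variable {E : Type*} [Field E]

local notation "S₃" => scalars (Fin 3) E

/-- A subgroup modulo scalars, given the image of a group of determinant one which meets every element
with a cube as determinant. -/
theorem quot_of_image [Finite E] {A : Type*} [Group A] {H : Subgroup (GL (Fin 3) E)} (hS : S₃ ≤ H)
    (i : A →* GL (Fin 3) E) (hiH : ∀ a, i a ∈ H) (hker : ∀ a, i a ∈ S₃ ↔ a ∈ Subgroup.center A)
    (hdet : ∀ a, (mat (i a)).det = 1)
    (hcube : ∀ g ∈ H, (∃ c : E, c ^ 3 = (mat g).det) → ∃ a, ∃ z ∈ S₃, i a * z = g) :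
    Nonempty (Cfsg.projQuot H ≃* A ⧸ Subgroup.center A) ∨
      ((∃ g ∈ H, ∀ c : E, c ^ 3 ≠ (mat g).det) ∧
        ∃ L : Subgroup (Cfsg.projQuot H), L.index = 3 ∧ Nonempty (↥L ≃* A ⧸ Subgroup.center A)) := by
  classical
  let π := QuotientGroup.mk' ((scalars (Fin 3) E).subgroupOf H)
  let ψ : A →* Cfsg.projQuot H := π.comp (i.codRestrict H hiH)
  have hkψ : ψ.ker = Subgroup.center A := by
    ext a
    rw [MonoidHom.mem_ker]
    exact (QuotientGroup.eq_one_iff _).trans (Subgroup.mem_subgroupOf.trans (hker a))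
  let eR : (A ⧸ Subgroup.center A) ≃* ψ.range :=
    (QuotientGroup.quotientMulEquivOfEq hkψ.symm).trans (QuotientGroup.quotientKerEquivRange ψ)
  let C : Subgroup Eˣ := (powMonoidHom 3).range
  let δ : H →* Eˣ ⧸ C :=
    (QuotientGroup.mk' C).comp ((Matrix.GeneralLinearGroup.det : GL (Fin 3) E →* Eˣ).comp H.subtype)
  have hdval : ∀ g : H, ((Matrix.GeneralLinearGroup.det (g : GL (Fin 3) E) : Eˣ) : E) =
      (mat (g : GL (Fin 3) E)).det := fun g => Matrix.GeneralLinearGroup.val_det_apply _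
  have hδ : ∀ g : H, δ g = 1 ↔ ∃ c : E, c ^ 3 = (mat (g : GL (Fin 3) E)).det := fun g => by
    refine (QuotientGroup.eq_one_iff _).trans ⟨fun ⟨u, hu⟩ => ⟨(u : E), ?_⟩, fun ⟨c, hc⟩ => ?_⟩
    · rw [← hdval, ← Units.val_pow_eq_pow_val]
      exact congrArg Units.val hu
    · have hc0 : c ≠ 0 := fun e => by
        rw [e, zero_pow three_ne_zero] at hc
        exact ((Matrix.isUnit_iff_isUnit_det _).1 (g : GL (Fin 3) E).isUnit).ne_zero hc.symm
      exact ⟨Units.mk0 c hc0, Units.ext (by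
        show (Units.mk0 c hc0 : E) ^ 3 = _
        rw [Units.val_mk0, hc]; exact (hdval g).symm)⟩
  have hcomap : ψ.range.comap π = δ.ker := by
    refine le_antisymm ?_ fun g hg => ?_
    · rintro g ⟨a, ha⟩
      have hz : (i a)⁻¹ * (g : GL (Fin 3) E) ∈ S₃ := Subgroup.mem_subgroupOf.1 (QuotientGroup.eq.1 ha)
      obtain ⟨c, hc⟩ := (mem_scalars_iff _).1 hz
      refine MonoidHom.mem_ker.2 ((hδ g).2 ⟨(c : E), ?_⟩)
      have e : mat (g : GL (Fin 3) E) = mat (i a) * mat ((i a)⁻¹ * (g : GL (Fin 3) E)) := by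
        show ((g : GL (Fin 3) E) : Matrix (Fin 3) (Fin 3) E) = _ * _
        rw [← Units.val_mul, mul_inv_cancel_left]
      rw [e, det_mul, hdet, show mat ((i a)⁻¹ * (g : GL (Fin 3) E)) = (c : E) • 1 from hc, one_mul, det_smul, det_one, mul_one, Fintype.card_fin]
    · obtain ⟨a, z, hz, e⟩ := hcube _ g.2 ((hδ g).1 hg)
      refine ⟨a, QuotientGroup.eq.2 (Subgroup.mem_subgroupOf.2 ?_)⟩
      show (i a)⁻¹ * (g : GL (Fin 3) E) ∈ S₃
      rwa [← e, inv_mul_cancel_left]
  have hidx : ψ.range.index = Nat.card δ.range := by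
    rw [← Subgroup.index_ker, ← hcomap, Subgroup.index_comap_of_surjective _ (QuotientGroup.mk'_surjective _)]
  have h3 : ψ.range.index ∣ 3 := by
    refine (hidx ▸ Subgroup.card_subgroup_dvd_card δ.range).trans ?_
    show C.index ∣ 3
    rw [IsCyclic.index_powMonoidHom_range]
    exact Nat.gcd_dvd_right _ _
  rcases (Nat.dvd_prime Nat.prime_three).1 h3 with h | h
  · exact Or.inl ⟨(eR.trans ((MulEquiv.subgroupCongr (Subgroup.index_eq_one.1 h)).trans Subgroup.topEquiv)).symm⟩
  · refine Or.inr ⟨?_, ψ.range, h, ⟨eR.symm⟩⟩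
    by_contra! hall
    have : δ.ker = ⊤ := top_unique fun g _ => MonoidHom.mem_ker.2 ((hδ g).2 (hall _ g.2))
    rw [hidx, ← Subgroup.index_ker, this, Subgroup.index_top] at h
    omega

/-- A field in universe zero with the same number of elements. -/
theorem exists_type_field {E : Type*} [Field E] [Fintype E] {p β : ℕ} [Fact p.Prime] (hβ : β ≠ 0)
    (hE : Fintype.card E = p ^ β) :
    ∃ (K : Type) (_ : Field K) (_ : Fintype K), Fintype.card K = p ^ β ∧ Nonempty (E ≃+* K) := by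
  letI : Fintype (GaloisField p β) := Fintype.ofFinite _
  have hK : Fintype.card (GaloisField p β) = p ^ β := by
    rw [← Nat.card_eq_fintype_card, GaloisField.card p β hβ]
  exact ⟨GaloisField p β, inferInstance, inferInstance, hK,
    ⟨FiniteField.ringEquivOfCardEq (hE.trans hK.symm)⟩⟩

variable {F : Type*} [Field F] [Fintype F]

/-- The degree of a subfield. -/
theorem exists_degree (p α : ℕ) [hp : Fact p.Prime] (hF : Fintype.card F = p ^ α) (E : Subfield F) [Fintype E] :
    ∃ γ, γ ≠ 0 ∧ γ ∣ α ∧ Fintype.card E = p ^ γ := by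
  have hm := Module.card_eq_pow_finrank (K := E) (V := F)
  have hd : Fintype.card E ∣ p ^ α := by
    rw [← hF, hm]
    exact dvd_pow_self _ Module.finrank_pos.ne'
  obtain ⟨γ, -, hγ⟩ := (Nat.dvd_prime_pow hp.out).1 hd
  refine ⟨γ, fun e => ?_, ?_, hγ⟩
  · have := Fintype.one_lt_card (α := E)
    rw [hγ, e, pow_zero] at this
    omega
  · rw [hF, hγ, ← pow_mul] at hm
    exact ⟨_, Nat.pow_right_injective hp.out.two_le hm⟩

/-- A subgroup with a complete root group. -/
theorem concl_root (p α : ℕ) [hp : Fact p.Prime] (hF : Fintype.card F = p ^ α) (E : Subfield F) [Fintype E]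
    {H P : Subgroup (GL (Fin 3) E)} (hr : Red H P) (hcc : CubeCond F E H) {v a : Fin 3 → E} (hv : v ≠ 0)
    (ha : a ≠ 0) (h : RootIn P v a) : Concl p α (Cfsg.projQuot H) := by
  classical
  have hle : specialLinear (Fin 3) E ≤ H :=
    (SLThree.specialLinear_le_of_rootIn hr.core.irreducible hv ha h).trans hr.le
  have hiH : ∀ x : Matrix.SpecialLinearGroup (Fin 3) E, Matrix.SpecialLinearGroup.toGL x ∈ H :=
    fun x => hle (mem_specialLinear_iff.2 x.2)
  have hker : ∀ x : Matrix.SpecialLinearGroup (Fin 3) E,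
      Matrix.SpecialLinearGroup.toGL x ∈ scalars (Fin 3) E ↔
        x ∈ Subgroup.center (Matrix.SpecialLinearGroup (Fin 3) E) := fun x => by
    rw [Matrix.SpecialLinearGroup.mem_center_iff]
    constructor
    · intro h
      obtain ⟨c, hc⟩ := (mem_scalars_iff _).1 h
      have e : (x : Matrix (Fin 3) (Fin 3) E) = (c : E) • 1 := hc
      refine ⟨c, ?_, by rw [e, Matrix.smul_one_eq_diagonal]; rfl⟩
      have := x.2
      rwa [e, det_smul, det_one, mul_one] at this
    · rintro ⟨r, hr', hx⟩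
      have hr0 : r ≠ 0 := fun e => by simp [e] at hr'
      refine (mem_scalars_iff _).2 ⟨Units.mk0 r hr0, ?_⟩
      show (x : Matrix (Fin 3) (Fin 3) E) = r • 1
      rw [← hx, Matrix.smul_one_eq_diagonal]; rfl
  obtain ⟨γ, hγ, hγα, hE⟩ := exists_degree p α hF E
  obtain ⟨K, iK, iKf, hK, ⟨e⟩⟩ := exists_type_field hγ hE
  let eK := CfsgLib.Linear.pslCongr (CfsgLib.Linear.slMapEquiv (n := Fin 3) e)
  have hcube : ∀ g ∈ H, (∃ c : E, c ^ 3 = (mat g).det) → ∃ x, ∃ z ∈ scalars (Fin 3) E,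
      Matrix.SpecialLinearGroup.toGL x * z = g := by
    rintro g - ⟨c, hc⟩
    have hc0 : c ≠ 0 := fun e => by
      rw [e, zero_pow three_ne_zero] at hc
      exact ((Matrix.isUnit_iff_isUnit_det _).1 g.isUnit).ne_zero hc.symm
    let z : GL (Fin 3) E := Units.map (Matrix.scalar (Fin 3) : E →+* Matrix (Fin 3) (Fin 3) E).toMonoidHom
      (Units.mk0 c hc0)
    have hz : z ∈ scalars (Fin 3) E := ⟨_, rfl⟩
    have hd : (mat (g * z⁻¹)).det = 1 := by
      have h1 : (mat (g * z⁻¹)).det * (mat z).det = (mat g).det := by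
        rw [← det_mul]
        show (((g * z⁻¹ : GL (Fin 3) E) : Matrix (Fin 3) (Fin 3) E) * (z : Matrix (Fin 3) (Fin 3) E)).det = _
        rw [← Units.val_mul, inv_mul_cancel_right]
      have h2 : (mat z).det = c ^ 3 := by simp [z, mat, det_diagonal]
      rw [h2, hc] at h1
      exact mul_right_cancel₀ (((Matrix.isUnit_iff_isUnit_det _).1 g.isUnit).ne_zero) (by rw [one_mul]; exact h1)
    refine ⟨⟨mat (g * z⁻¹), hd⟩, z, hz, ?_⟩
    rw [show Matrix.SpecialLinearGroup.toGL (⟨mat (g * z⁻¹), hd⟩ : Matrix.SpecialLinearGroup (Fin 3) E) = g * z⁻¹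
      from Units.ext rfl, inv_mul_cancel_right]
  rcases quot_of_image hr.sub.scal Matrix.SpecialLinearGroup.toGL hiH hker (fun x => x.2) hcube with
    hq | ⟨⟨g, hg, hne⟩, L, hL, ⟨f⟩⟩
  · obtain ⟨f⟩ := hq
    exact Or.inl ⟨K, iK, iKf, γ, hK, hγα, ⟨f.trans eK⟩⟩
  · obtain ⟨c, hc⟩ := hcc g hg
    obtain ⟨h3, h3α⟩ := three_dvd_of_cube hp.out.one_lt (by rw [Nat.card_eq_fintype_card, hE]) hF
      (((Matrix.isUnit_iff_isUnit_det _).1 g.isUnit).ne_zero) hc hne
    exact Or.inr (Or.inr (Or.inl ⟨K, iK, iKf, γ, hK, h3, h3α, L, hL, ⟨f.trans eK⟩⟩))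

end CfsgLib.PSLThreeSub
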