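import Cfsg.Agent.SLThree.Slopes
import Cfsg.Agent.Components.FStar
import Cfsg.Agent.Linear.SL2Sylow
import Cfsg.Agent.MaxSub.OrthOddStructure
import Cfsg.Agent.S0205

/-!
# Perfect subgroups of `GL₃` without solvable normal subgroups modulo scalars

In odd characteristic such a group is irreducible: on the annihilator of a fixed point it induces a
perfect subgroup of `SL₂`, whose central involution gives a solvable normal subgroup; the kernel is
abelian. It is then absolutely irreducible.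
-/

set_option autoImplicit false
set_option linter.unusedSectionVars false

namespace CfsgLib.PSLThreeSub

open Matrix Cfsg.Geo CfsgLib.Aschbacher CfsgLib.SLThree CfsgLib.Components
open scoped MatrixGroups commutatorElement

variable {F : Type*} [Field F]

/-- A perfect group whose solvable normal subgroups are scalar. -/
structure Clean (P : Subgroup (GL (Fin 3) F)) : Prop where
  perfect : ⁅P, P⁆ = P
  ne : ¬ P ≤ scalars (Fin 3) F
  rad : ∀ N : Subgroup P, N.Normal → Group.IsSolvable N → N ≤ (scalars (Fin 3) F).subgroupOf P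

theorem scalars_comm' {z g : GL (Fin 3) F} (hz : z ∈ scalars (Fin 3) F) : z * g = g * z := by
  obtain ⟨c, hc⟩ := (mem_scalars_iff z).1 hz
  refine Units.ext ?_
  rw [Units.val_mul, Units.val_mul, hc, smul_mul_assoc, one_mul, mul_smul_comm, mul_one]

theorem mulVec_mul' (g h : GL (Fin 3) F) (x : Fin 3 → F) :
    mat (g * h) *ᵥ x = mat g *ᵥ (mat h *ᵥ x) := by
  rw [mulVec_mulVec]; rfl

theorem vecMul_mul' (g h : GL (Fin 3) F) (x : Fin 3 → F) :
    x ᵥ* mat (g * h) = (x ᵥ* mat g) ᵥ* mat h := by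
  rw [vecMul_vecMul]; rfl

theorem det_eq_one_of_perfect {P : Subgroup (GL (Fin 3) F)} (hP : ⁅P, P⁆ = P) {g : GL (Fin 3) F}
    (hg : g ∈ P) : (mat g).det = 1 := by
  have h := MaxSub.perfect_hom_trivial hP (Matrix.GeneralLinearGroup.det.comp P.subtype)
    (fun a b => mul_comm _ _) ⟨g, hg⟩
  simpa [Units.ext_iff] using h

/-- A perfect group fixing a line fixes it pointwise. -/
theorem fix_of_line {P : Subgroup (GL (Fin 3) F)} (hP : ⁅P, P⁆ = P) {v : Fin 3 → F} (hv : v ≠ 0)
    (h : ∀ g ∈ P, ∃ c : F, mat g *ᵥ v = c • v) {g : GL (Fin 3) F} (hg : g ∈ P) :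
    mat g *ᵥ v = v := by
  choose c hc using fun g : P => h g g.2
  have inj : ∀ {s t : F}, s • v = t • v → s = t := fun e => smul_left_injective F hv e
  have hmul : ∀ x y : P, c (x * y) = c x * c y := fun x y => inj (by
    rw [← hc, Subgroup.coe_mul, mulVec_mul', hc, mulVec_smul, hc, smul_smul, mul_comm])
  have h1 : c 1 = 1 := inj (by rw [← hc, Subgroup.coe_one, mat, Units.val_one, one_mulVec, one_smul])
  let φ : P →* F := { toFun := c, map_one' := h1, map_mul' := hmul }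
  have := MaxSub.perfect_hom_trivial hP φ.toHomUnits (fun a b => mul_comm _ _) ⟨g, hg⟩
  have e : c ⟨g, hg⟩ = 1 := by simpa [Units.ext_iff, φ] using this
  simpa [e] using hc ⟨g, hg⟩

variable [Fintype F]

/-- A clean group fixes no point. -/
theorem Clean.no_line {P : Subgroup (GL (Fin 3) F)} (hc : Clean P) (hodd : Odd (Fintype.card F))
    {v : Fin 3 → F} (hv : v ≠ 0) : ¬ ∀ g ∈ P, ∃ c : F, mat g *ᵥ v = c • v := by
  classical
  intro h
  have hfix : ∀ g ∈ P, mat g *ᵥ v = v := fun g hg => fix_of_line hc.perfect hv h hg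
  obtain ⟨a, b, hi, hav, hbv⟩ : ∃ a b : Fin 3 → F, Indep a b ∧ a ⬝ᵥ v = 0 ∧ b ⬝ᵥ v = 0 := by
    obtain ⟨a, ha0, hva⟩ := exists_ne_zero_dot v
    obtain ⟨j, hj⟩ := Function.ne_iff.1 ha0
    obtain ⟨y, hay, hvy⟩ : ∃ y : Fin 3 → F, a ⬝ᵥ y ≠ 0 ∧ Indep v y := by
      have hay : a ⬝ᵥ Pi.single j 1 ≠ 0 := by rwa [dotProduct_single, mul_one]
      exact ⟨_, hay, indep_of_dot (x := a) hva (by rwa [dotProduct_comm]) hv⟩
    refine ⟨a, crossProduct v y, indep_symm (indep_of_dot (x := y) ?_ hay hvy.cross_ne_zero),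
      by rw [dotProduct_comm, hva], by rw [dotProduct_comm]; exact dot_self_cross v y⟩
    rw [dotProduct_comm]; exact dot_cross_self v y
  have hcomb : ∀ g : P, ∃ p : Fin 2 → Fin 2 → F,
      p 0 0 • a + p 0 1 • b = a ᵥ* mat (g : GL (Fin 3) F) ∧
      p 1 0 • a + p 1 1 • b = b ᵥ* mat (g : GL (Fin 3) F) := fun g => by
    obtain ⟨s, t, hst⟩ := exists_combination hi hv hav hbv (x := a ᵥ* mat (g : GL (Fin 3) F))
      (by rw [← dotProduct_mulVec, hfix _ g.2, hav])
    obtain ⟨s', t', hst'⟩ := exists_combination hi hv hav hbv (x := b ᵥ* mat (g : GL (Fin 3) F))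
      (by rw [← dotProduct_mulVec, hfix _ g.2, hbv])
    exact ⟨![![s, t], ![s', t']], hst, hst'⟩
  choose p hp using hcomb
  have uniq : ∀ {s t s' t' : F}, s • a + t • b = s' • a + t' • b → s = s' ∧ t = t' := fun {s t s' t'} e => by
    have := hi (s - s') (t - t') (by rw [sub_smul, sub_smul, sub_add_sub_comm, e, sub_self])
    exact ⟨sub_eq_zero.1 this.1, sub_eq_zero.1 this.2⟩
  let L : P → Matrix (Fin 2) (Fin 2) F := fun g => Matrix.of (p g)
  have hL : ∀ g k : P, L (g * k) = L g * L k := fun g k => by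
    obtain ⟨hg1, hg2⟩ := hp g
    obtain ⟨hk1, hk2⟩ := hp k
    obtain ⟨h1, h2⟩ := hp (g * k)
    rw [Subgroup.coe_mul, vecMul_mul', ← hg1, add_vecMul, smul_vecMul, smul_vecMul, ← hk1, ← hk2] at h1
    rw [Subgroup.coe_mul, vecMul_mul', ← hg2, add_vecMul, smul_vecMul, smul_vecMul, ← hk1, ← hk2] at h2
    have e1 := uniq (h1.trans (by module : _ = (p g 0 0 * p k 0 0 + p g 0 1 * p k 1 0) • a +
      (p g 0 0 * p k 0 1 + p g 0 1 * p k 1 1) • b))
    have e2 := uniq (h2.trans (by module : _ = (p g 1 0 * p k 0 0 + p g 1 1 * p k 1 0) • a +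
      (p g 1 0 * p k 0 1 + p g 1 1 * p k 1 1) • b))
    ext i j
    fin_cases i <;> fin_cases j <;>
      simp [L, Matrix.mul_apply, Fin.sum_univ_two, e1.1, e1.2, e2.1, e2.2]
  have hL1 : L 1 = 1 := by
    obtain ⟨h1, h2⟩ := hp 1
    rw [Subgroup.coe_one, mat, Units.val_one, vecMul_one] at h1 h2
    have e1 := uniq (h1.trans (by simp : a = (1 : F) • a + (0 : F) • b))
    have e2 := uniq (h2.trans (by simp : b = (0 : F) • a + (1 : F) • b))
    ext i j
    fin_cases i <;> fin_cases j <;> simp [L, e1.1, e1.2, e2.1, e2.2]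
  let δ : P →* F := { toFun := fun g => (L g).det, map_one' := by rw [hL1, det_one]
                      map_mul' := fun g k => by rw [hL, det_mul] }
  have hdet : ∀ g : P, (L g).det = 1 := fun g => by
    simpa [Units.ext_iff, δ] using
      MaxSub.perfect_hom_trivial hc.perfect δ.toHomUnits (fun x y => mul_comm _ _) g
  let ψ : P →* SL(2, F) :=
    { toFun := fun g => (⟨L g, hdet g⟩ : SL(2, F))
      map_one' := Subtype.ext hL1
      map_mul' := fun g k => Subtype.ext (hL g k) }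
  have hker : ψ.ker ≤ (scalars (Fin 3) F).subgroupOf P := by
    refine hc.rad _ inferInstance ?_
    have hk : ∀ g : P, g ∈ ψ.ker → ∀ x, ∃ c : F, mat (g : GL (Fin 3) F) *ᵥ x = x + c • v := fun g hg x => by
      obtain ⟨h1, h2⟩ := hp g
      have e : L g = 1 := congrArg (fun A : SL(2, F) => (A : Matrix (Fin 2) (Fin 2) F)) (MonoidHom.mem_ker.1 hg)
      have e00 : p g 0 0 = 1 := by simpa [L] using congrFun (congrFun e 0) 0
      have e01 : p g 0 1 = 0 := by simpa [L] using congrFun (congrFun e 0) 1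
      have e10 : p g 1 0 = 0 := by simpa [L] using congrFun (congrFun e 1) 0
      have e11 : p g 1 1 = 1 := by simpa [L] using congrFun (congrFun e 1) 1
      rw [e00, e01, one_smul, zero_smul, add_zero] at h1
      rw [e10, e11, zero_smul, one_smul, zero_add] at h2
      obtain ⟨c, hc'⟩ := exists_smul_of_dot hi hv hav hbv (w := mat (g : GL (Fin 3) F) *ᵥ x - x)
        (by rw [dotProduct_sub, dotProduct_mulVec, ← h1, sub_self])
        (by rw [dotProduct_sub, dotProduct_mulVec, ← h2, sub_self])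
      exact ⟨c, by rw [hc', add_sub_cancel]⟩
    refine Group.isSolvable_of_comm fun x y => Subtype.ext (Subtype.ext (MaxSub.gl_ext fun z => ?_))
    obtain ⟨c, hx⟩ := hk x.1 x.2 z
    obtain ⟨d, hy⟩ := hk y.1 y.2 z
    show mat ((x.1 : GL (Fin 3) F) * (y.1 : GL (Fin 3) F)) *ᵥ z = mat ((y.1 : GL (Fin 3) F) * (x.1 : GL (Fin 3) F)) *ᵥ z
    rw [mulVec_mul', mulVec_mul', hx, hy, mulVec_add, mulVec_add, mulVec_smul, mulVec_smul,
      hfix _ x.1.2, hfix _ y.1.2, hx, hy, add_right_comm]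
  have hbot : ψ.ker = ⊥ := by
    refine (Subgroup.eq_bot_iff_forall _).2 fun g hg => ?_
    obtain ⟨c, hc'⟩ := (mem_scalars_iff _).1 (Subgroup.mem_subgroupOf.1 (hker hg))
    have h1 := hfix _ g.2
    rw [mat, hc', smul_mulVec, one_mulVec] at h1
    have hc1 : (c : F) = 1 := smul_left_injective F hv (h1.trans (one_smul F v).symm)
    refine Subtype.ext (Units.ext ?_)
    rw [hc', hc1, one_smul]; rfl
  have hinj : Function.Injective ψ := (MonoidHom.ker_eq_bot_iff ψ).1 hbot
  rcases Nat.even_or_odd (Nat.card P) with he | ho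
  · obtain ⟨t, ht⟩ := exists_prime_orderOf_dvd_card' (G := P) 2 (even_iff_two_dvd.1 he)
    have ht1 : t ≠ 1 := fun e => by rw [e, orderOf_one] at ht; omega
    have htt : t * t = 1 := by rw [← pow_two, ← ht, pow_orderOf_eq_one]
    have hneg : (ψ t : Matrix (Fin 2) (Fin 2) F) = -1 := by
      rw [Linear.eq_neg_one_of_sq hodd (ψ t) (fun e => ht1 (hinj (e.trans ψ.map_one.symm)))
        (by rw [sq, ← map_mul, htt, map_one])]
      simp
    have hcen : t ∈ Subgroup.center P := Subgroup.mem_center_iff.2 fun g => hinj (Subtype.ext (by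
      rw [map_mul, map_mul, Matrix.SpecialLinearGroup.coe_mul, Matrix.SpecialLinearGroup.coe_mul,
        hneg, mul_neg, neg_mul, mul_one, one_mul]))
    have hsc := hc.rad (Subgroup.center P) inferInstance
      (Group.isSolvable_of_comm fun x y => Subtype.ext (Subgroup.mem_center_iff.1 x.2 y.1).symm) hcen
    obtain ⟨c, hc'⟩ := (mem_scalars_iff _).1 (Subgroup.mem_subgroupOf.1 hsc)
    have h1 := hfix _ t.2
    rw [mat, hc', smul_mulVec, one_mulVec] at h1
    have hc1 : (c : F) = 1 := smul_left_injective F hv (h1.trans (one_smul F v).symm)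
    exact ht1 (Subtype.ext (Units.ext (by rw [hc', hc1, one_smul]; rfl)))
  · have hs := Cfsg.Agent.S0205.result ho
    refine hc.ne fun g hg => ?_
    have htop := hc.rad ⊤ inferInstance
      (Group.isSolvable_of_surjective (f := Subgroup.topEquiv.symm.toMonoidHom) (MulEquiv.surjective _))
      (Subgroup.mem_top (⟨g, hg⟩ : P))
    exact Subgroup.mem_subgroupOf.1 htop

theorem mem_scalars_dual {g : GL (Fin 3) F} (hg : g ∈ scalars (Fin 3) F) :
    dualEquiv g ∈ scalars (Fin 3) F := by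
  obtain ⟨c, hc⟩ := (mem_scalars_iff g).1 hg
  refine (mem_scalars_iff _).2 ⟨c⁻¹, ?_⟩
  have e : ((g⁻¹ : GL (Fin 3) F) : Matrix (Fin 3) (Fin 3) F) = ((c⁻¹ : Fˣ) : F) • 1 := by
    refine left_inv_eq_right_inv (a := (g : Matrix (Fin 3) (Fin 3) F)) (Units.inv_mul g) ?_
    rw [hc, smul_mul_assoc, one_mul, smul_smul, Units.mul_inv, one_smul]
  rw [dualEquiv_coe, e, transpose_smul, transpose_one]

theorem mem_scalars_dual_iff {g : GL (Fin 3) F} :
    dualEquiv g ∈ scalars (Fin 3) F ↔ g ∈ scalars (Fin 3) F := by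
  refine ⟨fun h => ?_, mem_scalars_dual⟩
  have := mem_scalars_dual h
  rwa [show dualEquiv (dualEquiv g) = g from dualEquiv.left_inv g] at this

theorem Clean.dual {P : Subgroup (GL (Fin 3) F)} (hc : Clean P) : Clean (SLThree.dual P) := by
  refine ⟨by rw [SLThree.dual, ← Subgroup.map_commutator, hc.perfect], fun h => hc.ne fun g hg => ?_,
    fun N hN hs => ?_⟩
  · exact mem_scalars_dual_iff.1 (h ⟨g, hg, rfl⟩)
  · let e : P ≃* SLThree.dual P := P.equivMapOfInjective _ dualEquiv.injective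
    have h1 := hc.rad (N.comap e.toMonoidHom) inferInstance
      (Group.isSolvable_of_isSolvable_injective (f := e.toMonoidHom.subgroupComap N)
        fun x y hxy => Subtype.ext (e.injective (congrArg Subtype.val hxy)))
    intro y hy
    obtain ⟨x, rfl⟩ := e.surjective y
    exact Subgroup.mem_subgroupOf.2 (mem_scalars_dual (Subgroup.mem_subgroupOf.1 (h1 hy)))

/-- An invariant subspace gives a fixed point, or a fixed point of the dual group. -/
theorem line_or_dual {P : Subgroup (GL (Fin 3) F)} {W : Submodule F (Fin 3 → F)} (h0 : W ≠ ⊥)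
    (h1 : W ≠ ⊤) (hW : ∀ g ∈ P, ∀ w ∈ W, mat g *ᵥ w ∈ W) :
    (∃ v : Fin 3 → F, v ≠ 0 ∧ ∀ g ∈ P, ∃ c : F, mat g *ᵥ v = c • v) ∨
      ∃ a : Fin 3 → F, a ≠ 0 ∧ ∀ g ∈ P, ∃ c : F, a ᵥ* mat g = c • a := by
  obtain ⟨v, hvW, hv⟩ := Submodule.exists_mem_ne_zero_of_ne_bot h0
  by_cases h : ∀ w ∈ W, ∃ c : F, c • v = w
  · exact Or.inl ⟨v, hv, fun g hg => let ⟨c, hc⟩ := h _ (hW g hg v hvW); ⟨c, hc.symm⟩⟩
  · push Not at h
    obtain ⟨w, hwW, hw⟩ := h
    obtain ⟨x, hx⟩ := SetLike.exists_not_mem_of_ne_top W h1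
    obtain ⟨a, haW, hax⟩ := MaxSub.exists_dot_of_notMem W hx
    have ha : a ≠ 0 := fun e => by simp [e] at hax
    refine Or.inr ⟨a, ha, fun g hg => ?_⟩
    rcases indep_or_smul ha (a ᵥ* mat g) with hi | ⟨c, hc⟩
    · obtain ⟨c, hc⟩ := exists_smul_of_dot hi hv (haW v hvW)
        (by rw [← dotProduct_mulVec, haW _ (hW g hg v hvW)]) (haW w hwW)
        (by rw [← dotProduct_mulVec, haW _ (hW g hg w hwW)])
      exact absurd hc (hw c)
    · exact ⟨c, hc.symm⟩

/-- A clean group is absolutely irreducible. -/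
theorem Clean.absIrred {P : Subgroup (GL (Fin 3) F)} (hc : Clean P) (hodd : Odd (Fintype.card F)) :
    ActsAbsolutelyIrreducibly (matrixSet P) := by
  classical
  have hirr : ∀ W : Submodule F (Fin 3 → F), (∀ g ∈ P, ∀ w ∈ W, mat g *ᵥ w ∈ W) → W = ⊥ ∨ W = ⊤ := by
    intro W hW
    by_contra h
    rw [not_or] at h
    rcases line_or_dual h.1 h.2 hW with ⟨v, hv, hl⟩ | ⟨a, ha, hl⟩
    · exact hc.no_line hodd hv hl
    · refine hc.dual.no_line hodd ha ?_
      rintro _ ⟨g, hg, rfl⟩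
      obtain ⟨c, hc'⟩ := hl g⁻¹ (inv_mem hg)
      exact ⟨c, by rw [MulEquiv.coe_toMonoidHom, mat, dualEquiv_coe, mulVec_transpose, ← hc']⟩
  refine ⟨fun W hW => hirr W fun g hg w hw => ?_, fun M hM => ?_⟩
  · have := hW _ (mem_matrixSet hg) (Submodule.mem_map_of_mem (f := toLin' (mat g)) hw)
    rwa [toLin'_apply] at this
  rw [forall_matrixSet] at hM
  by_cases hroot : ∃ c : F, ∃ x : Fin 3 → F, x ≠ 0 ∧ M *ᵥ x = c • x
  · obtain ⟨c, x, hx, hMx⟩ := hroot
    refine ⟨c, ?_⟩
    have hker : LinearMap.ker (toLin' (M - c • 1)) = ⊤ := by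
      refine (hirr _ fun g hg w hw => ?_).resolve_left fun e => hx ?_
      · rw [LinearMap.mem_ker, toLin'_apply] at hw ⊢
        have e : (M - c • 1) * mat g = mat g * (M - c • 1) := by
          rw [sub_mul, mul_sub, smul_mul_assoc, one_mul, mul_smul_comm, mul_one, hM g hg]
        rw [mulVec_mulVec, e, ← mulVec_mulVec, hw, mulVec_zero]
      · rw [← Submodule.mem_bot F, ← e, LinearMap.mem_ker, toLin'_apply, sub_mulVec, hMx, smul_mulVec,
          one_mulVec, sub_self]
    refine sub_eq_zero.1 (Matrix.ext_of_mulVec_single fun i => ?_)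
    have : Pi.single i (1 : F) ∈ LinearMap.ker (toLin' (M - c • 1)) := hker ▸ Submodule.mem_top
    rw [LinearMap.mem_ker, toLin'_apply] at this
    rw [this, zero_mulVec]
  exfalso
  push Not at hroot
  have hdet : ∀ (c : F) (x : Fin 3 → F), x ≠ 0 → x ᵥ* M ≠ c • x := fun c x hx e => by
    have h0 : (M - c • 1).det = 0 :=
      exists_vecMul_eq_zero_iff.1 ⟨x, hx, by rw [vecMul_sub, e, vecMul_smul, vecMul_one, sub_self]⟩
    obtain ⟨y, hy, hMy⟩ := exists_mulVec_eq_zero_iff.2 h0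
    exact hroot c y hy (by rwa [sub_mulVec, smul_mulVec, one_mulVec, sub_eq_zero] at hMy)
  -- a cyclic vector
  set v : Fin 3 → F := Pi.single 0 1 with hvdef
  have hv : v ≠ 0 := by simp [hvdef]
  have hspan : ∀ x : Fin 3 → F, ∃ r s t : F, x = r • v + s • (M *ᵥ v) + t • (M *ᵥ (M *ᵥ v)) := by
    intro x
    let W : Submodule F (Fin 3 → F) := Submodule.span F {v, M *ᵥ v, M *ᵥ (M *ᵥ v)}
    suffices hW : W = ⊤ by
      have hx : x ∈ W := hW ▸ Submodule.mem_top
      obtain ⟨r, y, hy, rfl⟩ := Submodule.mem_span_insert.1 hx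
      obtain ⟨s, t, rfl⟩ := Submodule.mem_span_pair.1 hy
      exact ⟨r, s, t, by rw [add_assoc]⟩
    have hi : Indep v (M *ᵥ v) := (indep_or_smul hv _).resolve_right fun ⟨c, hc'⟩ => hroot c v hv hc'.symm
    by_contra hne
    obtain ⟨y, hy⟩ := SetLike.exists_not_mem_of_ne_top W hne
    obtain ⟨a, haW, hay⟩ := MaxSub.exists_dot_of_notMem W hy
    have ha : a ≠ 0 := fun e => by simp [e] at hay
    have h1 : a ⬝ᵥ v = 0 := haW _ (Submodule.subset_span (by simp))
    have h2 : a ⬝ᵥ (M *ᵥ v) = 0 := haW _ (Submodule.subset_span (by simp))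
    have h3 : a ⬝ᵥ (M *ᵥ (M *ᵥ v)) = 0 := haW _ (Submodule.subset_span (by simp))
    rcases indep_or_smul ha (a ᵥ* M) with hi' | ⟨c, hc'⟩
    · obtain ⟨c, hc'⟩ := exists_smul_of_dot hi' hv h1 (by rw [← dotProduct_mulVec, h2]) h2
        (by rw [← dotProduct_mulVec, h3])
      exact hroot c v hv hc'.symm
    · exact hdet c a ha hc'.symm
  have hcomm : ∀ g ∈ P, ∀ k ∈ P, g * k = k * g := fun g hg k hk => by
    refine MaxSub.gl_ext fun x => ?_
    show mat (g * k) *ᵥ x = mat (k * g) *ᵥ x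
    obtain ⟨r, s, t, rfl⟩ := hspan x
    have hgM : ∀ z, mat g *ᵥ (M *ᵥ z) = M *ᵥ (mat g *ᵥ z) := fun z => by
      rw [mulVec_mulVec, mulVec_mulVec, hM g hg]
    have hkM : ∀ z, mat k *ᵥ (M *ᵥ z) = M *ᵥ (mat k *ᵥ z) := fun z => by
      rw [mulVec_mulVec, mulVec_mulVec, hM k hk]
    have hv' : mat g *ᵥ (mat k *ᵥ v) = mat k *ᵥ (mat g *ᵥ v) := by
      obtain ⟨r, s, t, he⟩ := hspan (mat k *ᵥ v)
      obtain ⟨r', s', t', he'⟩ := hspan (mat g *ᵥ v)
      rw [he, he']
      simp only [mulVec_add, mulVec_smul, hgM, hkM, he, he']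
      module
    simp only [mulVec_mul', mulVec_add, mulVec_smul, hgM, hkM, hv']
  refine hc.ne fun g hg => ?_
  have htop := hc.rad ⊤ inferInstance (Group.isSolvable_of_comm fun x y =>
    Subtype.ext (Subtype.ext (hcomm _ x.1.2 _ y.1.2))) (Subgroup.mem_top (⟨g, hg⟩ : P))
  exact Subgroup.mem_subgroupOf.1 htop

end CfsgLib.PSLThreeSub
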