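import Cfsg.Agent.PSLThreeSub.Clean
import Cfsg.Agent.PGLThree.Setup

/-!
# The core of a subgroup without abelian normal subgroups modulo scalars
-/

set_option autoImplicit false
set_option linter.unusedSectionVars false

namespace CfsgLib.PSLThreeSub

open Matrix Cfsg.Geo CfsgLib.Aschbacher CfsgLib.Components
open scoped commutatorElement

variable {F : Type*} [Field F]

local notation "S₃" => scalars (Fin 3) F

/-- `H` normalises `N`. -/
def Normed (H N : Subgroup (GL (Fin 3) F)) : Prop := ∀ h ∈ H, ∀ x ∈ N, h * x * h⁻¹ ∈ N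

theorem Normed.le_normalizer {H N : Subgroup (GL (Fin 3) F)} (h : Normed H N) :
    H ≤ Subgroup.normalizer (N : Set (GL (Fin 3) F)) := fun g hg =>
  Subgroup.mem_normalizer_iff.2 fun x => ⟨fun hx => h g hg x hx, fun hx => by
    simpa [mul_assoc] using h g⁻¹ (inv_mem hg) _ hx⟩

theorem normed_of_le_normalizer {H N : Subgroup (GL (Fin 3) F)}
    (h : H ≤ Subgroup.normalizer (N : Set (GL (Fin 3) F))) : Normed H N :=
  fun g hg x hx => (Subgroup.mem_normalizer_iff.1 (h hg) x).1 hx

theorem conj_scalar {g z : GL (Fin 3) F} (hz : z ∈ S₃) : g * z * g⁻¹ = z := by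
  rw [← scalars_comm' hz, mul_inv_cancel_right]

theorem Normed.sup_scalars {H N : Subgroup (GL (Fin 3) F)} (h : Normed H N) : Normed H (N ⊔ S₃) := by
  refine fun g hg x hx => ?_
  have hle : N ⊔ S₃ ≤ (N ⊔ S₃).comap (MulAut.conj g).toMonoidHom := sup_le
    (fun y hy => Subgroup.mem_sup_left (h g hg y hy))
    (fun z hz => show g * z * g⁻¹ ∈ N ⊔ S₃ by rw [conj_scalar hz]; exact Subgroup.mem_sup_right hz)
  exact hle hx

theorem Normed.commutator {H N : Subgroup (GL (Fin 3) F)} (h : Normed H N) : Normed H ⁅N, N⁆ := by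
  refine fun g hg x hx => ?_
  have hle : ⁅N, N⁆ ≤ (⁅N, N⁆).comap (MulAut.conj g).toMonoidHom := Subgroup.commutator_le.2
    fun a ha b hb => show MulAut.conj g ⁅a, b⁆ ∈ ⁅N, N⁆ by
      rw [map_commutatorElement]
      exact Subgroup.commutator_mem_commutator (h g hg a ha) (h g hg b hb)
  exact hle hx

theorem mem_sup_scalars {N : Subgroup (GL (Fin 3) F)} {x : GL (Fin 3) F} :
    x ∈ N ⊔ S₃ ↔ ∃ a ∈ N, ∃ z ∈ S₃, a * z = x := by
  refine ⟨fun hx => ?_, fun ⟨a, ha, z, hz, e⟩ => e ▸ mul_mem (Subgroup.mem_sup_left ha) (Subgroup.mem_sup_right hz)⟩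
  let T : Subgroup (GL (Fin 3) F) :=
    { carrier := {x | ∃ a ∈ N, ∃ z ∈ S₃, a * z = x}
      one_mem' := ⟨1, one_mem _, 1, one_mem _, one_mul _⟩
      mul_mem' := by
        rintro _ _ ⟨a, ha, z, hz, rfl⟩ ⟨b, hb, w, hw, rfl⟩
        refine ⟨a * b, mul_mem ha hb, z * w, mul_mem hz hw, ?_⟩
        calc a * b * (z * w) = a * (b * z) * w := by group
          _ = a * (z * b) * w := by rw [scalars_comm' (g := b) hz]
          _ = a * z * (b * w) := by group
      inv_mem' := by
        rintro _ ⟨a, ha, z, hz, rfl⟩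
        exact ⟨a⁻¹, inv_mem ha, z⁻¹, inv_mem hz, by rw [← scalars_comm' (inv_mem hz)]; group⟩ }
  have : N ⊔ S₃ ≤ T := sup_le (fun a ha => ⟨a, ha, 1, one_mem _, mul_one _⟩)
    fun z hz => ⟨1, one_mem _, z, hz, one_mul _⟩
  exact this hx

theorem commutator_sup_scalars (N : Subgroup (GL (Fin 3) F)) : ⁅N ⊔ S₃, N ⊔ S₃⁆ = ⁅N, N⁆ := by
  refine le_antisymm (Subgroup.commutator_le.2 fun x hx y hy => ?_)
    (Subgroup.commutator_mono le_sup_left le_sup_left)
  obtain ⟨a, ha, z, hz, rfl⟩ := mem_sup_scalars.1 hx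
  obtain ⟨b, hb, w, hw, rfl⟩ := mem_sup_scalars.1 hy
  have e : ⁅a * z, b * w⁆ = ⁅a, b⁆ := by
    simp only [commutatorElement_def]
    calc a * z * (b * w) * (a * z)⁻¹ * (b * w)⁻¹
        = a * (z * (b * w)) * z⁻¹ * a⁻¹ * (b * w)⁻¹ := by group
      _ = a * b * (w * a⁻¹) * w⁻¹ * b⁻¹ := by rw [scalars_comm' (g := b * w) hz]; group
      _ = a * b * a⁻¹ * b⁻¹ := by rw [scalars_comm' (g := a⁻¹) hw]; group
  rw [e]
  exact Subgroup.commutator_mem_commutator ha hb

/-- A subgroup containing the scalars, without abelian normal subgroups modulo them. -/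
structure Sub (H : Subgroup (GL (Fin 3) F)) : Prop where
  scal : S₃ ≤ H
  ne : ¬ H ≤ S₃
  noAb : ∀ N : Subgroup (GL (Fin 3) F), S₃ ≤ N → N ≤ H → Normed H N → ⁅N, N⁆ ≤ S₃ → N ≤ S₃

variable [Finite F] {H : Subgroup (GL (Fin 3) F)}

/-- Normalised solvable subgroups are scalar. -/
theorem Sub.noSolv (hs : Sub H) {N : Subgroup (GL (Fin 3) F)} (hle : N ≤ H) (hn : Normed H N)
    (hsol : Group.IsSolvable N) : N ≤ S₃ := by
  revert hle hn hsol
  induction N using (wellFounded_lt (α := Subgroup (GL (Fin 3) F))).induction with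
  | _ N ih =>
    intro hle hn hsol
    by_cases h1 : N = ⊥
    · rw [h1]; exact bot_le
    have hlt : ⁅N, N⁆ < N := by
      refine lt_of_le_of_ne (Subgroup.commutator_le_self N) fun e => h1 ?_
      refine (Subgroup.eq_bot_iff_forall _).2 fun x hx => ?_
      obtain ⟨n, hn'⟩ := (Group.isSolvable_def N).1 hsol
      have htop : ∀ k, derivedSeries N k = ⊤ := fun k => by
        induction k with
        | zero => rfl
        | succ k ihk =>
          rw [derivedSeries_succ, ihk]
          exact Subgroup.map_injective N.subtype_injective (by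
            rw [Subgroup.map_commutator, ← MonoidHom.range_eq_map, Subgroup.range_subtype, e])
      have := hn' ▸ (htop n ▸ Subgroup.mem_top (⟨x, hx⟩ : N))
      exact congrArg Subtype.val (Subgroup.mem_bot.1 this)
    refine le_sup_left.trans (hs.noAb (N ⊔ S₃) le_sup_right (sup_le hle hs.scal) hn.sup_scalars ?_)
    rw [commutator_sup_scalars]
    exact ih _ hlt (hlt.le.trans hle) hn.commutator (Components.isSolvable_mono hsol hlt.le)

theorem comm_of_mem_scalars {X : Subgroup (GL (Fin 3) F)} (hX : ⁅X, X⁆ = X) {h : GL (Fin 3) F}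
    (hc : ∀ x ∈ X, h * x * h⁻¹ * x⁻¹ ∈ S₃) {x : GL (Fin 3) F} (hx : x ∈ X) : h * x = x * h := by
  let φ : X →* ↥(S₃) :=
    { toFun := fun x => ⟨h * x * h⁻¹ * (x : GL (Fin 3) F)⁻¹, hc x x.2⟩
      map_one' := Subtype.ext (by simp)
      map_mul' := fun a b => Subtype.ext (by
        show h * (a * b : GL (Fin 3) F) * h⁻¹ * (a * b : GL (Fin 3) F)⁻¹ = _ * _
        rw [show h * ((a : GL (Fin 3) F) * b) * h⁻¹ * ((a : GL (Fin 3) F) * b)⁻¹ =
          h * a * h⁻¹ * ((h * b * h⁻¹ * (b : GL (Fin 3) F)⁻¹) * (a : GL (Fin 3) F)⁻¹) by group,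
          scalars_comm' (hc b b.2)]
        group) }
  have := congrArg Subtype.val (MaxSub.perfect_hom_trivial hX φ
    (fun a b => Subtype.ext (scalars_comm' (φ a).2)) ⟨x, hx⟩)
  change h * x * h⁻¹ * x⁻¹ = 1 at this
  calc h * x = (h * x * h⁻¹ * x⁻¹) * (x * h) := by group
    _ = x * h := by rw [this, one_mul]

theorem mem_scalars_of_comm {T : Subgroup (GL (Fin 3) F)} (hT : ActsAbsolutelyIrreducibly (matrixSet T))
    {g : GL (Fin 3) F} (h : ∀ x ∈ T, g * x = x * g) : g ∈ S₃ := by
  obtain ⟨c, hc⟩ := hT.2 (mat g) (forall_matrixSet.2 fun x hx => congrArg Units.val (h x hx))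
  have hc0 : c ≠ 0 := fun e => g.ne_zero (by rw [show (g : Matrix (Fin 3) (Fin 3) F) = mat g from rfl, hc, e, zero_smul])
  exact (mem_scalars_iff g).2 ⟨Units.mk0 c hc0, hc⟩

/-- The core and its centraliser. -/
theorem Sub.exists_core [Fintype F] (hs : Sub H) (hodd : Odd (Fintype.card F)) :
    ∃ P : Subgroup (GL (Fin 3) F), P ≤ H ∧ Normed H P ∧ PGLThree.Core P ∧
      ∀ h ∈ H, (∀ x ∈ P, h * x * h⁻¹ * x⁻¹ ∈ S₃) → h ∈ S₃ := by
  classical
  haveI : Finite (GL (Fin 3) F) := inferInstance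
  obtain ⟨N, ⟨hNS, hNH, hNn⟩, hmin⟩ := (wellFounded_lt (α := Subgroup (GL (Fin 3) F))).has_min
    {N | ¬ N ≤ S₃ ∧ N ≤ H ∧ Normed H N}
    ⟨H, hs.ne, le_rfl, fun h hh x hx => mul_mem (mul_mem hh hx) (inv_mem hh)⟩
  have hminimal : ∀ M, M ≤ N → Normed H M → ¬ M ≤ S₃ → M = N := fun M hM hMn hMS =>
    eq_of_le_of_not_lt hM fun hlt => hmin M ⟨hMS, hM.trans hNH, hMn⟩ hlt
  set P := ⁅N, N⁆ with hPdef
  have hPN : P ≤ N := Subgroup.commutator_le_self N
  have hPS : ¬ P ≤ S₃ := fun h => hNS (le_sup_left.trans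
    (hs.noAb (N ⊔ S₃) le_sup_right (sup_le hNH hs.scal) hNn.sup_scalars (by rw [commutator_sup_scalars]; exact h)))
  have hPe : P = N := hminimal P hPN hNn.commutator hPS
  have hperf : ⁅P, P⁆ = P := by rw [hPe]; exact hPe
  have hPn : Normed H P := hNn.commutator
  have hPH : P ≤ H := hPN.trans hNH
  have hradmap : ∀ T : Subgroup (GL (Fin 3) F), T ≤ H → Normed H T →
      solvRadical T ≤ (S₃).subgroupOf T := fun T hT hn x hx => by
    have h1 := hs.noSolv (N := (solvRadical T).map T.subtype) ((Subgroup.map_subtype_le _).trans hT)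
      (normed_of_le_normalizer (hn.le_normalizer.trans (normalizer_le_normalizer_map_subtype _ _)))
      (isSolvable_map _ isSolvable_solvRadical)
    exact Subgroup.mem_subgroupOf.2 (h1 (Subgroup.mem_map_of_mem _ hx))
  have hcl : Clean P := ⟨hperf, hPS, fun K hK hsol => by
    haveI := hK
    exact (le_solvRadical hsol).trans (hradmap P hPH hPn)⟩
  have habs := hcl.absIrred hodd
  -- every non-scalar normal subgroup of `P` is `P`
  have hsimple : ∀ K : Subgroup (GL (Fin 3) F), K ≤ P → Normed P K → ¬ K ≤ S₃ → K = P := by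
    intro K₀ hK₀ hK₀n hK₀S
    obtain ⟨K, ⟨hKS, hKK₀, hKn⟩, hKmin⟩ := (wellFounded_lt (α := Subgroup (GL (Fin 3) F))).has_min
      {K | ¬ K ≤ S₃ ∧ K ≤ K₀ ∧ Normed P K} ⟨K₀, hK₀S, le_rfl, hK₀n⟩
    have hKP : K ≤ P := hKK₀.trans hK₀
    have hKmin' : ∀ M, M ≤ K → Normed P M → ¬ M ≤ S₃ → M = K := fun M hM hMn hMS =>
      eq_of_le_of_not_lt hM fun hlt => hKmin M ⟨hMS, hM.trans hKK₀, hMn⟩ hlt
    have hKr : Group.IsSolvable K → False := fun hsol => hKS fun x hx => by
      have h1 := hcl.rad (K.subgroupOf P) (Subgroup.normal_subgroupOf_of_le_normalizer hKn.le_normalizer)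
        (Group.isSolvable_of_surjective (f := (Subgroup.subgroupOfEquivOfLe hKP).symm.toMonoidHom)
          (MulEquiv.surjective _))
      exact Subgroup.mem_subgroupOf.1 (h1 (show (⟨x, hKP hx⟩ : P) ∈ K.subgroupOf P from hx))
    have hKK : ⁅K, K⁆ = K := hKmin' _ (Subgroup.commutator_le_self K) hKn.commutator fun h => hKr (by
      refine (Group.isSolvable_def K).2 ⟨2, (Subgroup.eq_bot_iff_forall _).2 fun x hx => ?_⟩
      have h1 : derivedSeries K 1 ≤ Subgroup.center K := by
        rw [derivedSeries_one, commutator_def, Subgroup.commutator_le]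
        intro a _ b _
        refine Subgroup.mem_center_iff.2 fun c => Subtype.ext ?_
        have := h (Subgroup.commutator_mem_commutator a.2 b.2)
        exact (scalars_comm' this).symm
      have h2 : derivedSeries K 2 = ⊥ := by
        rw [derivedSeries_succ, Subgroup.commutator_eq_bot_iff_le_centralizer]
        exact fun a ha => Subgroup.mem_centralizer_iff.2 fun b _ => Subgroup.mem_center_iff.1 (h1 ha) b
      rw [h2] at hx
      exact Subgroup.mem_bot.1 hx)
    have hKcl : Clean K := ⟨hKK, hKS, fun L hL hsol => by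
      haveI := hL
      refine (le_solvRadical hsol).trans fun x hx => ?_
      haveI := isSolvable_map K.subtype (isSolvable_solvRadical (G := K))
      have h1 := hcl.rad (((solvRadical K).map K.subtype).subgroupOf P)
        (Subgroup.normal_subgroupOf_of_le_normalizer
          (hKn.le_normalizer.trans (normalizer_le_normalizer_map_subtype _ _)))
        (Group.isSolvable_of_surjective
          (f := (Subgroup.subgroupOfEquivOfLe ((Subgroup.map_subtype_le _).trans hKP)).symm.toMonoidHom) (MulEquiv.surjective _))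
      exact Subgroup.mem_subgroupOf.2 (Subgroup.mem_subgroupOf.1
        (h1 (show (⟨x.1, hKP x.2⟩ : P) ∈ _ from Subgroup.mem_map_of_mem K.subtype hx)))⟩
    have hKabs := hKcl.absIrred hodd
    have hKH : Normed H K := by
      intro h hh x hx
      by_contra hout
      let K' := K.map (MulAut.conj h).toMonoidHom
      have hK'P : K' ≤ P := by
        rintro _ ⟨y, hy, rfl⟩
        exact hPn h hh y (hKP hy)
      have hK'n : Normed P K' := by
        rintro g hg _ ⟨y, hy, rfl⟩
        refine ⟨(h⁻¹ * g * h) * y * (h⁻¹ * g * h)⁻¹, hKn _ ?_ y hy, ?_⟩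
        · simpa using hPn h⁻¹ (inv_mem hh) g hg
        · simp [MulAut.conj_apply]; group
      have hint : K ⊓ K' ≤ S₃ := by
        by_contra hns
        have e := hKmin' (K ⊓ K') inf_le_left
          (fun g hg y hy => ⟨hKn g hg y hy.1, hK'n g hg y hy.2⟩) hns
        have hle : K ≤ K' := e ▸ inf_le_right
        have hcard : Nat.card K' ≤ Nat.card K :=
          (Nat.card_congr (K.equivMapOfInjective _ (MulAut.conj h).injective).toEquiv).ge
        exact hout (Subgroup.eq_of_le_of_card_ge hle hcard ▸ Subgroup.mem_map_of_mem _ hx)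
      refine hKS fun y hy => ?_
      have hcomm : ∀ z ∈ K', y * z * y⁻¹ * z⁻¹ ∈ S₃ := fun z hz => hint (Subgroup.mem_inf.2
        ⟨by
          rw [show y * z * y⁻¹ * z⁻¹ = y * (z * y⁻¹ * z⁻¹) by group]
          exact mul_mem hy (hKn z (hK'P hz) y⁻¹ (inv_mem hy)),
          mul_mem (hK'n y (hKP hy) z hz) (inv_mem hz)⟩)
      have hK'K : ⁅K', K'⁆ = K' := by rw [← Subgroup.map_commutator, hKK]
      -- `y` centralises `K'`, hence its preimage centralises `K`
      have h2 : h⁻¹ * y * h ∈ S₃ := mem_scalars_of_comm hKabs fun z hz => by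
        have e := comm_of_mem_scalars hK'K hcomm (Subgroup.mem_map_of_mem _ hz)
        simp only [MulEquiv.coe_toMonoidHom, MulAut.conj_apply] at e
        calc h⁻¹ * y * h * z = h⁻¹ * (y * (h * z * h⁻¹)) * h := by group
          _ = h⁻¹ * (h * z * h⁻¹ * y) * h := by rw [e]
          _ = z * (h⁻¹ * y * h) := by group
      have := conj_scalar (g := h) h2
      rw [show h * (h⁻¹ * y * h) * h⁻¹ = y by group] at this
      exact Eq.mpr (congrArg (· ∈ S₃) this) h2
    have hKN : K = N := hminimal K (hKP.trans hPN) hKH hKS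
    exact le_antisymm hK₀ ((hPe.trans hKN.symm).le.trans hKK₀)
  refine ⟨P, hPH, hPn, ⟨hperf, ?_, ?_, habs⟩, fun h hh hx => mem_scalars_of_comm habs
    fun x hxP => comm_of_mem_scalars hperf hx hxP⟩
  · have hnt : Nontrivial (P ⧸ PGLThree.Z P) := by
      rw [← not_subsingleton_iff_nontrivial]
      intro hsub
      exact hPS fun x hx => Subgroup.mem_subgroupOf.1 ((QuotientGroup.eq_one_iff (⟨x, hx⟩ : P)).1
        (Subsingleton.elim _ _))
    refine ⟨fun L hL => ?_⟩
    haveI := hL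
    let K := (L.comap (QuotientGroup.mk' (PGLThree.Z P))).map P.subtype
    by_cases hK : K ≤ S₃
    · left
      refine (Subgroup.eq_bot_iff_forall _).2 fun q hq => ?_
      obtain ⟨x, rfl⟩ := QuotientGroup.mk'_surjective _ q
      exact (QuotientGroup.eq_one_iff x).2 (Subgroup.mem_subgroupOf.2 (hK ⟨x, hq, rfl⟩))
    · right
      have e := hsimple K (Subgroup.map_subtype_le _) (fun g hg y hy => by
        obtain ⟨x, hx, rfl⟩ := hy
        exact ⟨⟨g, hg⟩ * x * ⟨g, hg⟩⁻¹, Subgroup.Normal.conj_mem inferInstance x hx _, rfl⟩) hK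
      refine (Subgroup.eq_top_iff' _).2 fun q => ?_
      obtain ⟨x, rfl⟩ := QuotientGroup.mk'_surjective _ q
      obtain ⟨y, hy, hyx⟩ := e.ge x.2
      obtain rfl : y = x := Subtype.ext hyx
      exact hy
  · intro hc
    refine hPS (hperf ▸ Subgroup.commutator_le.2 fun a ha b hb => ?_)
    have := hc.is_comm.comm (QuotientGroup.mk' (PGLThree.Z P) ⟨a, ha⟩)
      (QuotientGroup.mk' (PGLThree.Z P) ⟨b, hb⟩)
    have h1 : QuotientGroup.mk' (PGLThree.Z P) ⁅(⟨a, ha⟩ : P), ⟨b, hb⟩⁆ = 1 := by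
      rw [map_commutatorElement, commutatorElement_eq_one_iff_mul_comm]; exact this
    exact Subgroup.mem_subgroupOf.1 ((QuotientGroup.eq_one_iff _).1 h1)

end CfsgLib.PSLThreeSub
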