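import Cfsg.Agent.PSLThreeSub.Core
import Cfsg.Agent.MaxSub.TraceDescent
import Cfsg.Prelude.Def_LieTypeDatum

/-!
# Descent to the field of traces, and cube classes of determinants
-/

set_option autoImplicit false
set_option linter.unusedSectionVars false
set_option linter.style.haveILetI false

namespace CfsgLib.PSLThreeSub

open Matrix Cfsg.Geo CfsgLib.Aschbacher
open scoped commutatorElement

variable {F : Type*} [Field F] {E : Subfield F}

local notation "S₃" => scalars (Fin 3) F

/-- The inclusion of `GL₃(E)`. -/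
noncomputable abbrev incl (E : Subfield F) : GL (Fin 3) E →* GL (Fin 3) F :=
  Matrix.GeneralLinearGroup.map E.subtype

theorem mat_incl (g : GL (Fin 3) E) : mat (incl E g) = (mat g).map E.subtype := rfl

theorem incl_injective : Function.Injective (incl E) := fun g h e => by
  refine Units.ext (Matrix.ext fun i j => Subtype.ext ?_)
  exact congrFun (congrFun (congrArg (fun x : GL (Fin 3) F => (x : Matrix (Fin 3) (Fin 3) F)) e) i) j

theorem trace_incl (g : GL (Fin 3) E) : (mat (incl E g)).trace = ((mat g).trace : E) := by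
  rw [mat_incl]; exact (AddMonoidHom.map_trace E.subtype (mat g)).symm

theorem det_incl (g : GL (Fin 3) E) : (mat (incl E g)).det = ((mat g).det : E) := by
  rw [mat_incl]; exact (RingHom.map_det E.subtype (mat g)).symm

theorem exists_incl {g : GL (Fin 3) F} (h : ∀ i j, mat g i j ∈ E) : ∃ g₀, incl E g₀ = g := by
  let A : Matrix (Fin 3) (Fin 3) E := Matrix.of fun i j => ⟨mat g i j, h i j⟩
  have hA : A.map E.subtype = mat g := by ext i j; rfl
  have hd : ((A.det : E) : F) = (mat g).det := by rw [← hA]; exact RingHom.map_det E.subtype A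
  have hd0 : A.det ≠ 0 := fun e => by
    rw [e, ZeroMemClass.coe_zero] at hd
    exact ((Matrix.isUnit_iff_isUnit_det _).1 g.isUnit).ne_zero hd.symm
  exact ⟨Matrix.GeneralLinearGroup.mkOfDetNeZero A hd0, Units.ext hA⟩

theorem mem_scalars_incl {g : GL (Fin 3) E} : incl E g ∈ S₃ ↔ g ∈ scalars (Fin 3) E := by
  constructor
  · intro h
    obtain ⟨c, hc⟩ := (mem_scalars_iff _).1 h
    have hij : ∀ i j, (((mat g : Matrix (Fin 3) (Fin 3) E) i j : E) : F) = ((c : F) • (1 : Matrix (Fin 3) (Fin 3) F)) i j :=
      fun i j => congrFun (congrFun hc i) j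
    have h0 : (((mat g : Matrix (Fin 3) (Fin 3) E) 0 0 : E) : F) = c := by simpa using hij 0 0
    have hne : mat g 0 0 ≠ 0 := fun e => c.ne_zero (by rw [← h0, e]; rfl)
    refine (mem_scalars_iff g).2 ⟨Units.mk0 _ hne, Matrix.ext fun i j => Subtype.ext ?_⟩
    show (((mat g : Matrix (Fin 3) (Fin 3) E) i j : E) : F) = _
    rw [hij i j]
    rcases eq_or_ne i j with rfl | hne' <;> simp [h0, *]
  · intro h
    obtain ⟨c, hc⟩ := (mem_scalars_iff g).1 h
    refine (mem_scalars_iff _).2 ⟨Units.map E.subtype.toMonoidHom c, Matrix.ext fun i j => ?_⟩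
    show (((mat g : Matrix (Fin 3) (Fin 3) E) i j : E) : F) = _
    rw [show mat g = ((c : E) • (1 : Matrix (Fin 3) (Fin 3) E)) from hc]
    rcases eq_or_ne i j with rfl | hne' <;> simp [*]

/-- An element normalising a spanning rational group is rational up to a scalar. -/
theorem exists_scalar_mul {P : Subgroup (GL (Fin 3) F)} [Finite F]
    (hP : ActsAbsolutelyIrreducibly (matrixSet P)) (hrat : P ≤ (incl E).range) {h : GL (Fin 3) F}
    (hn : ∀ x ∈ P, h * x * h⁻¹ ∈ P) : ∃ z ∈ S₃, ∃ g, z * incl E g = h := by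
  classical
  have hspan := span_eq_top_of_absIrred hP
  obtain ⟨π, hπ⟩ := (Algebra.linearMap E F).exists_leftInverse_of_injective
    (LinearMap.ker_eq_bot.2 (algebraMap E F).injective)
  have hπ' : ∀ e : E, π (e : F) = e := fun e => LinearMap.congr_fun hπ e
  have key : ∀ X ∈ Submodule.span F (matrixSet P), ∀ (c : F) (i j : Fin 3),
      (mat h * (c • X).map (fun x => (π x : F)) * mat h⁻¹) i j ∈ E := by
    intro X hX
    induction hX using Submodule.span_induction with
    | mem X hX =>
      obtain ⟨x, hx, rfl⟩ := hX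
      obtain ⟨x₀, rfl⟩ := hrat hx
      obtain ⟨y₀, hy₀⟩ := hrat (hn _ hx)
      intro c i j
      have e : (c • mat (incl E x₀)).map (fun x => (π x : F)) = (π c : F) • mat (incl E x₀) := by
        ext k l
        rw [Matrix.map_apply, Matrix.smul_apply, Matrix.smul_apply, mat_incl, Matrix.map_apply]
        show ((π (c * (((mat x₀ : Matrix (Fin 3) (Fin 3) E) k l : E) : F)) : E) : F) = (π c : F) * (((mat x₀ : Matrix (Fin 3) (Fin 3) E) k l : E) : F)
        rw [mul_comm c, show (((mat x₀ : Matrix (Fin 3) (Fin 3) E) k l : E) : F) * c = (mat x₀ k l : E) • c from rfl, map_smul,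
          smul_eq_mul, Subfield.coe_mul, mul_comm]
      show (mat h * (c • mat (incl E x₀)).map (fun x => (π x : F)) * mat h⁻¹) i j ∈ E
      rw [e, mul_smul_comm, smul_mul_assoc, Matrix.smul_apply, smul_eq_mul,
        show mat h * mat (incl E x₀) * mat h⁻¹ = mat (incl E y₀) by rw [hy₀]; rfl]
      exact mul_mem (π c).2 (mat y₀ i j).2
    | zero => intro c i j; simp
    | add X Y _ _ hX hY =>
      intro c i j
      rw [smul_add, show (c • X + c • Y).map (fun x => (π x : F)) =
        (c • X).map (fun x => (π x : F)) + (c • Y).map (fun x => (π x : F)) from by ext k l; simp,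
        mul_add, add_mul]
      exact add_mem (hX c i j) (hY c i j)
    | smul d X _ hX =>
      intro c i j
      rw [smul_smul]
      exact hX (c * d) i j
  have hunit : ∀ i j a b : Fin 3, mat h a i * mat h⁻¹ j b ∈ E := fun i j a b => by
    have h1 := key (Matrix.single i j 1) (hspan ▸ Submodule.mem_top) 1 a b
    have e : ((1 : F) • Matrix.single i j (1 : F)).map (fun x => (π x : F)) = Matrix.single i j 1 := by
      ext k l
      rw [one_smul, Matrix.map_apply, Matrix.single_apply]
      have h01 : π (1 : F) = 1 := by simpa using hπ' 1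
      split_ifs <;> simp [h01]
    rw [e, Matrix.mul_apply] at h1
    simpa [Matrix.mul_apply, Matrix.single_apply, ite_and] using h1
  obtain ⟨j, b, hne⟩ : ∃ j b, mat h⁻¹ j b ≠ 0 := by
    by_contra! hall
    exact (h⁻¹).ne_zero (Matrix.ext hall)
  let s : GL (Fin 3) F := Units.map (Matrix.scalar (Fin 3) : F →+* Matrix (Fin 3) (Fin 3) F).toMonoidHom
    (Units.mk0 _ hne)
  have hs : s ∈ S₃ := ⟨_, rfl⟩
  obtain ⟨g, hg⟩ := exists_incl (E := E) (g := s * h) fun a i => by
    have e : mat (s * h) a i = mat h⁻¹ j b * mat h a i := by simp [s, mat]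
    rw [e, mul_comm]
    exact hunit i j a b
  exact ⟨s⁻¹, inv_mem hs, g, by rw [hg, inv_mul_cancel_left]⟩

variable [Fintype F]

/-- The hypothesis on determinants: `E` is so large that a non-cube determinant becomes a cube. -/
def CubeCond (F : Type*) [Field F] [Fintype F] (E : Subfield F) (H : Subgroup (GL (Fin 3) E)) : Prop :=
  ∀ g ∈ H, ∃ c : F, c ^ 3 = ((mat g).det : E)

/-- An element of `E` which is a cube in `F` but not in `E` forces a cubic extension. -/
theorem three_dvd_of_cube {p γ α : ℕ} (hp : 1 < p) (hE : Nat.card E = p ^ γ)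
    (hF : Fintype.card F = p ^ α) {d : E} (hd : d ≠ 0) {c : F} (hc : c ^ 3 = (d : F))
    (hne : ∀ e : E, e ^ 3 ≠ d) : 3 ∣ p ^ γ - 1 ∧ 3 * γ ∣ α := by
  classical
  haveI := Fintype.ofFinite E
  have hEc : Fintype.card E = p ^ γ := by rw [← Nat.card_eq_fintype_card, hE]
  have hγ : γ ≠ 0 := fun e => by
    have := Fintype.one_lt_card (α := E)
    rw [hEc, e, pow_zero] at this
    omega
  have hm := (Module.card_eq_pow_finrank (K := E) (V := F))
  rw [hEc, hF, ← pow_mul] at hm
  have hα : α = γ * Module.finrank E F := Nat.pow_right_injective hp hm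
  have hu : Nat.card Eˣ = p ^ γ - 1 := by rw [Nat.card_eq_fintype_card, Fintype.card_units, hEc]
  have h3 : 3 ∣ p ^ γ - 1 := by
    by_contra h3
    have hco : (Nat.card Eˣ).Coprime 3 := by
      rw [hu]; exact ((Nat.prime_three.coprime_iff_not_dvd).2 h3).symm
    obtain ⟨e, he⟩ := (powCoprime hco).surjective (Units.mk0 d hd)
    exact hne e (congrArg Units.val he)
  refine ⟨h3, ?_⟩
  by_contra hnd
  have hm3 : ¬ 3 ∣ Module.finrank E F := fun h => hnd (by rw [hα, mul_comm 3]; exact Nat.mul_dvd_mul_left γ h)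
  have hc0 : c ≠ 0 := fun e => hd (Subtype.ext (by rw [← hc, e]; simp))
  have h1 : c ^ (3 * (p ^ γ - 1)) = 1 := by
    rw [pow_mul, hc, ← hu, ← SubmonoidClass.coe_pow]
    have := congrArg Units.val (pow_card_eq_one' (x := Units.mk0 d hd))
    simp only [Units.val_pow_eq_pow_val, Units.val_mk0, Units.val_one] at this
    rw [this]; rfl
  have h2 : c ^ (p ^ α - 1) = 1 := by rw [← hF]; exact FiniteField.pow_card_sub_one_eq_one c hc0
  have hs : p ^ α - 1 = (p ^ γ - 1) * ∑ i ∈ Finset.range (Module.finrank E F), (p ^ γ) ^ i := by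
    rw [hα, pow_mul, mul_comm]
    exact (geom_sum_mul_of_one_le (Nat.one_le_pow _ _ (by omega)) _).symm
  have hmod : (∑ i ∈ Finset.range (Module.finrank E F), (p ^ γ) ^ i) % 3 = Module.finrank E F % 3 := by
    have h1 : p ^ γ % 3 = 1 := by
      have := Nat.one_le_pow γ p (by omega)
      omega
    rw [Finset.sum_nat_mod]
    simp [Nat.pow_mod, h1]
  have hco : Nat.Coprime 3 (∑ i ∈ Finset.range (Module.finrank E F), (p ^ γ) ^ i) := by
    refine Nat.prime_three.coprime_iff_not_dvd.2 fun h => hm3 ?_
    omega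
  have h4 : c ^ (p ^ γ - 1) = 1 := by
    have := pow_gcd_eq_one.2 ⟨h1, h2⟩
    rwa [hs, mul_comm 3, Nat.gcd_mul_left, hco.gcd_eq_one, mul_one] at this
  have hcE : c ∈ E := by
    by_contra hout
    have hq : 1 < p ^ γ := Nat.one_lt_pow hγ hp
    have hsub : (insert c (Finset.univ.image fun e : E => (e : F))).val ⊆
        (Polynomial.X ^ (p ^ γ) - Polynomial.X : Polynomial F).roots := fun x hx => by
      rw [Polynomial.mem_roots (FiniteField.X_pow_card_sub_X_ne_zero F hq)]
      rw [Finset.mem_val, Finset.mem_insert, Finset.mem_image] at hx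
      rcases hx with rfl | ⟨e, -, rfl⟩
      · have : x ^ p ^ γ = x := by
          rw [show p ^ γ = p ^ γ - 1 + 1 by omega, pow_succ, h4, one_mul]
        simp [this]
      · have : e ^ p ^ γ = e := by rw [← hEc]; exact FiniteField.pow_card e
        simp [← SubmonoidClass.coe_pow, this]
    have := Polynomial.card_le_degree_of_subset_roots hsub
    rw [Finset.card_insert_of_notMem (by simpa using hout),
      Finset.card_image_of_injective _ Subtype.val_injective, Finset.card_univ, hEc,
      FiniteField.X_pow_card_sub_X_natDegree_eq F hq] at this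
    omega
  exact hne ⟨c, hcE⟩ (Subtype.ext hc)

end CfsgLib.PSLThreeSub
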