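import Cfsg.Agent.PSLThreeSub.Reduce
import Cfsg.Agent.PGLThree.Ctx
import Cfsg.Prelude.Def_LieTypeDatum

/-!
# The conclusion, and the reduced hypotheses of the subgroup list of `PSL₃(q)`, `q` odd
-/

set_option autoImplicit false
set_option linter.unusedSectionVars false

open scoped MatrixGroups

namespace CfsgLib.PSLThreeSub

open Matrix Cfsg.Geo CfsgLib.Aschbacher CfsgLib.MaxSub

/-- The list of conclusions for a group `G` inside `PSL₃(p^α)`. -/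
def Concl (p α : ℕ) (G : Type*) [Group G] : Prop :=
  (∃ (K : Type) (_ : Field K) (_ : Fintype K) (β : ℕ), Fintype.card K = p ^ β ∧ β ∣ α ∧ Nonempty (G ≃* Matrix.ProjectiveSpecialLinearGroup (Fin 3) K)) ∨
  (∃ (K : Type) (_ : Field K) (_ : Fintype K) (β : ℕ), Fintype.card K = p ^ (2 * β) ∧ 2 * β ∣ α ∧ Nonempty (G ≃* Cfsg.PSU 3 K (p ^ β))) ∨
  (∃ (K : Type) (_ : Field K) (_ : Fintype K) (β : ℕ), Fintype.card K = p ^ β ∧ 3 ∣ p ^ β - 1 ∧ 3 * β ∣ α ∧ ∃ L : Subgroup G, L.index = 3 ∧ Nonempty (↥L ≃* Matrix.ProjectiveSpecialLinearGroup (Fin 3) K)) ∨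
  (∃ (K : Type) (_ : Field K) (_ : Fintype K) (β : ℕ), Fintype.card K = p ^ (2 * β) ∧ 3 ∣ p ^ β + 1 ∧ 6 * β ∣ α ∧ ∃ L : Subgroup G, L.index = 3 ∧ Nonempty (↥L ≃* Cfsg.PSU 3 K (p ^ β))) ∨
  (∃ (K : Type) (_ : Field K) (_ : Fintype K) (β : ℕ), Fintype.card K = p ^ β ∧ β ∣ α ∧ p ^ β ≠ 3 ∧ (Nonempty (G ≃* Matrix.ProjectiveSpecialLinearGroup (Fin 2) K) ∨ Nonempty (G ≃* (GL (Fin 2) K ⧸ Subgroup.center (GL (Fin 2) K))))) ∨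
  ((p ^ α % 10 = 1 ∨ p ^ α % 10 = 9) ∧ ∃ (K : Type) (_ : Field K) (_ : Fintype K), Fintype.card K = 5 ∧ Nonempty (G ≃* Matrix.ProjectiveSpecialLinearGroup (Fin 2) K)) ∨
  ((p ^ α) ^ 3 % 7 = 1 ∧ ∃ (K : Type) (_ : Field K) (_ : Fintype K), Fintype.card K = 7 ∧ Nonempty (G ≃* Matrix.ProjectiveSpecialLinearGroup (Fin 2) K)) ∨
  (p = 5 ∧ Even α ∧ (Nonempty (G ≃* ↥(alternatingGroup (Fin 6))) ∨ Nonempty (G ≃* ↥(alternatingGroup (Fin 7))) ∨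
    ∃ L : Subgroup G, L.index = 2 ∧ Nonempty (↥L ≃* ↥(alternatingGroup (Fin 6))))) ∨
  ((p ^ α % 30 = 1 ∨ p ^ α % 30 = 19) ∧ Nonempty (G ≃* ↥(alternatingGroup (Fin 6))))

theorem Concl.of_equiv {p α : ℕ} {G G' : Type*} [Group G] [Group G'] (h : Concl p α G) (e : G ≃* G') :
    Concl p α G' := by
  have tr : ∀ {X : Type} [Group X] {i : ℕ}, (∃ L : Subgroup G, L.index = i ∧ Nonempty (↥L ≃* X)) →
      ∃ L : Subgroup G', L.index = i ∧ Nonempty (↥L ≃* X) := by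
    rintro X _ i ⟨L, hL, ⟨f⟩⟩
    exact ⟨L.map e.toMonoidHom, by rw [Subgroup.index_map_of_bijective e.bijective]; exact hL,
      ⟨(L.equivMapOfInjective _ e.injective).symm.trans f⟩⟩
  rcases h with ⟨K, i, j, β, h1, h2, ⟨f⟩⟩ | ⟨K, i, j, β, h1, h2, ⟨f⟩⟩ | ⟨K, i, j, β, h1, h2, h3, h4⟩ |
    ⟨K, i, j, β, h1, h2, h3, h4⟩ | ⟨K, i, j, β, h1, h2, h3, h4⟩ | ⟨hq, K, i, j, h1, ⟨f⟩⟩ |
    ⟨hq, K, i, j, h1, ⟨f⟩⟩ | ⟨h1, h2, h3⟩ | ⟨hq, ⟨f⟩⟩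
  · exact Or.inl ⟨K, i, j, β, h1, h2, ⟨e.symm.trans f⟩⟩
  · exact Or.inr (Or.inl ⟨K, i, j, β, h1, h2, ⟨e.symm.trans f⟩⟩)
  · exact Or.inr (Or.inr (Or.inl ⟨K, i, j, β, h1, h2, h3, tr h4⟩))
  · exact Or.inr (Or.inr (Or.inr (Or.inl ⟨K, i, j, β, h1, h2, h3, tr h4⟩)))
  · exact Or.inr (Or.inr (Or.inr (Or.inr (Or.inl ⟨K, i, j, β, h1, h2, h3,
      h4.imp (fun ⟨f⟩ => ⟨e.symm.trans f⟩) fun ⟨f⟩ => ⟨e.symm.trans f⟩⟩))))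
  · exact Or.inr (Or.inr (Or.inr (Or.inr (Or.inr (Or.inl ⟨hq, K, i, j, h1, ⟨e.symm.trans f⟩⟩)))))
  · exact Or.inr (Or.inr (Or.inr (Or.inr (Or.inr (Or.inr (Or.inl ⟨hq, K, i, j, h1, ⟨e.symm.trans f⟩⟩))))))
  · exact Or.inr (Or.inr (Or.inr (Or.inr (Or.inr (Or.inr (Or.inr (Or.inl ⟨h1, h2,
      h3.imp (fun ⟨f⟩ => ⟨e.symm.trans f⟩) (Or.imp (fun ⟨f⟩ => ⟨e.symm.trans f⟩) tr)⟩)))))))
  · exact Or.inr (Or.inr (Or.inr (Or.inr (Or.inr (Or.inr (Or.inr (Or.inr ⟨hq, ⟨e.symm.trans f⟩⟩)))))))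

/-- The hypotheses over the field of traces. -/
structure Red {E : Type*} [Field E] (H P : Subgroup (GL (Fin 3) E)) : Prop where
  sub : Sub H
  le : P ≤ H
  normed : Normed H P
  core : PGLThree.Core P
  cent : ∀ h ∈ H, (∀ x ∈ P, h * x * h⁻¹ * x⁻¹ ∈ scalars (Fin 3) E) → h ∈ scalars (Fin 3) E
  gen : ∀ E₀ : Subfield E, (∀ g ∈ P, (mat g).trace ∈ E₀) → E₀ = ⊤

theorem Red.ctx {E : Type*} [Field E] {H P : Subgroup (GL (Fin 3) E)} (hr : Red H P)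
    (hroot : ∀ v a : Fin 3 → E, v ≠ 0 → a ≠ 0 → ¬ RootIn P v a)
    (hquad : ¬ ∃ Q, Cfsg.Geo.IsNondegenerateQuadraticForm Q ∧ Cfsg.Geo.FixesQuadForm (matrixSet P) Q) :
    PGLThree.Ctx P := ⟨hr.core, hr.gen, hroot, hquad⟩

end CfsgLib.PSLThreeSub
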