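import Cfsg.Agent.PSLThreeSub.Big
import Cfsg.Agent.PGLThree.Reduce
import Cfsg.Agent.MaxSub.UnitaryPower
import Cfsg.Agent.SUThree.Decomp.Field
import Cfsg.Agent.AutPSL.Involution
import Cfsg.Agent.Forms.UThreeTwo
import Cfsg.Agent.Forms4.UnitaryCenter

/-!
# The unitary case of the subgroup list of `PSL₃(q)`

A core with flags but no incident flags fixes a unitary form; after a change of basis it contains
the special unitary group, and the whole group consists of similarities.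
-/

set_option autoImplicit false
set_option linter.unusedSectionVars false

namespace CfsgLib.PSLThreeSub

open Matrix Cfsg.Geo CfsgLib.MaxSub CfsgLib.MaxSub.UC CfsgLib.SLThree
open CfsgLib.Aschbacher hiding tv

variable {E : Type*} [Field E]

/-- An element normalising an absolutely irreducible group of isometries is a similarity. -/
theorem exists_similar {σ : E ≃+* E} (hinv : ∀ a, σ (σ a) = a) {G : Matrix (Fin 3) (Fin 3) E} (hG : IsUnit G)
    (hGh : Gᵀ.map σ = G) {P : Subgroup (GL (Fin 3) E)} (habs : ActsAbsolutelyIrreducibly (matrixSet P))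
    (hfix : ∀ x ∈ P, (mat x)ᵀ * G * (mat x).map σ = G) {h : GL (Fin 3) E}
    (hn : ∀ x ∈ P, h * x * h⁻¹ ∈ P) :
    ∃ μ : E, μ ≠ 0 ∧ σ μ = μ ∧ (mat h)ᵀ * G * (mat h).map σ = μ • G := by
  have hGd : IsUnit G.det := (Matrix.isUnit_iff_isUnit_det _).1 hG
  obtain ⟨M, hM⟩ : ∃ M, M = (mat h)ᵀ * G * (mat h).map σ := ⟨_, rfl⟩
  have hcomm : ∀ x ∈ P, G⁻¹ * M * (mat x).map σ = (mat x).map σ * (G⁻¹ * M) := by
    intro x hx
    have hy := hfix _ (hn x hx)
    have e : mat h * mat x = mat (h * x * h⁻¹) * mat h := by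
      rw [show mat h * mat x = mat (h * x) from (Units.val_mul _ _).symm,
        show mat (h * x * h⁻¹) * mat h = mat (h * x * h⁻¹ * h) from (Units.val_mul _ _).symm,
        inv_mul_cancel_right]
    have h1 : (mat x)ᵀ * M * (mat x).map σ = M := by
      calc (mat x)ᵀ * M * (mat x).map σ = (mat h * mat x)ᵀ * G * (mat h * mat x).map σ := by
            rw [hM, Matrix.transpose_mul, Matrix.map_mul]; simp only [mul_assoc]
        _ = (mat h)ᵀ * ((mat (h * x * h⁻¹))ᵀ * G * (mat (h * x * h⁻¹)).map σ) * (mat h).map σ := by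
            rw [e, Matrix.transpose_mul, Matrix.map_mul]; simp only [mul_assoc]
        _ = M := by rw [hy, hM]
    have hu : IsUnit ((mat x)ᵀ * G) := by
      refine IsUnit.mul ?_ hG
      rw [Matrix.isUnit_iff_isUnit_det, det_transpose, ← Matrix.isUnit_iff_isUnit_det]
      exact x.isUnit
    refine hu.mul_left_cancel ?_
    calc (mat x)ᵀ * G * (G⁻¹ * M * (mat x).map σ)
        = (mat x)ᵀ * (G * G⁻¹) * M * (mat x).map σ := by simp only [mul_assoc]
      _ = M := by rw [Matrix.mul_nonsing_inv G hGd, mul_one, h1]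
      _ = G * (G⁻¹ * M) := by rw [← mul_assoc, Matrix.mul_nonsing_inv G hGd, one_mul]
      _ = (mat x)ᵀ * G * ((mat x).map σ * (G⁻¹ * M)) := by rw [← mul_assoc ((mat x)ᵀ * G), hfix x hx]
  have hmm : ∀ A : Matrix (Fin 3) (Fin 3) E, (A.map σ).map σ = A := fun A => by
    ext i j; simp [hinv]
  obtain ⟨c, hc⟩ := habs.2 ((G⁻¹ * M).map σ) (forall_matrixSet.2 fun x hx => by
    have := congrArg (fun A : Matrix (Fin 3) (Fin 3) E => A.map σ) (hcomm x hx)
    simpa [Matrix.map_mul, hmm] using this)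
  have hN : G⁻¹ * M = σ c • 1 := by
    rw [← hmm (G⁻¹ * M), hc]
    ext i j
    rcases eq_or_ne i j with rfl | hij <;> simp [*]
  have hMG : M = σ c • G := by
    rw [← one_mul M, ← Matrix.mul_nonsing_inv G hGd, mul_assoc, hN, mul_smul_comm, mul_one]
  have hMh : Mᵀ.map σ = M := by
    rw [hM, Matrix.transpose_mul, Matrix.transpose_mul, Matrix.transpose_transpose, Matrix.map_mul,
      Matrix.map_mul, ← Matrix.transpose_map, hmm, hGh, mul_assoc]
  have hμ0 : σ c ≠ 0 := fun e => by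
    have hd := congrArg Matrix.det (hM.symm.trans hMG)
    rw [e, zero_smul, Matrix.det_zero, det_mul, det_mul, det_transpose,
      show ((mat h).map σ).det = σ (mat h).det from (RingHom.map_det σ.toRingHom (mat h)).symm] at hd
    have hh := ((Matrix.isUnit_iff_isUnit_det _).1 h.isUnit).ne_zero
    exact mul_ne_zero (mul_ne_zero hh hGd.ne_zero) ((map_ne_zero σ).2 hh) hd
  refine ⟨σ c, hμ0, ?_, hM.symm.trans hMG⟩
  have h2 : σ (σ c) • G = σ c • G := by
    calc σ (σ c) • G = σ (σ c) • Gᵀ.map σ := by rw [hGh]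
      _ = Mᵀ.map σ := by rw [hMG]; ext i j; simp [map_mul]
      _ = σ c • G := hMh.trans hMG
  by_contra hne
  have h3 : (σ (σ c) - σ c) • G = 0 := by rw [sub_smul, h2, sub_self]
  rcases smul_eq_zero.1 h3 with h4 | h4
  · exact hne (sub_eq_zero.1 h4)
  · exact hG.ne_zero h4

theorem irreducible_map_conj {P : Subgroup (GL (Fin 3) E)} (hP : Irreducible P) (B : GL (Fin 3) E) :
    Irreducible (P.map (MulAut.conj B).toMonoidHom) := by
  intro W hW
  refine (hP (W.comap (toLin' (mat B))) fun g hg w hw => ?_).imp (fun h => ?_) (fun h => ?_)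
  · rw [Submodule.mem_comap, toLin'_apply] at hw ⊢
    have := hW _ (Subgroup.mem_map_of_mem (MulAut.conj B).toMonoidHom hg) _ hw
    rw [mulVec_mulVec] at this
    rw [mulVec_mulVec]
    convert this using 2
    simp [mat, mul_assoc]
  · refine (Submodule.eq_bot_iff _).2 fun w hw => ?_
    have hmem : mat B⁻¹ *ᵥ w ∈ W.comap (toLin' (mat B)) := by
      rw [Submodule.mem_comap, toLin'_apply, mulVec_inv_mulVec]; exact hw
    rw [h, Submodule.mem_bot] at hmem
    simpa [mulVec_inv_mulVec] using congrArg (mat B *ᵥ ·) hmem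
  · refine Submodule.eq_top_iff'.2 fun w => ?_
    have hmem : mat B⁻¹ *ᵥ w ∈ W.comap (toLin' (mat B)) := h ▸ Submodule.mem_top
    rwa [Submodule.mem_comap, toLin'_apply, mulVec_inv_mulVec] at hmem

theorem det_conj (B g : GL (Fin 3) E) : (mat (MulAut.conj B g)).det = (mat g).det := by
  show ((B : Matrix (Fin 3) (Fin 3) E) * g * ((B⁻¹ : GL (Fin 3) E) : Matrix (Fin 3) (Fin 3) E)).det = _
  rw [det_mul, det_mul, mul_right_comm, ← det_mul, Units.mul_inv, det_one, one_mul]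

/-- Conjugating does not change the group modulo scalars. -/
theorem nonempty_projQuot_conj {H : Subgroup (GL (Fin 3) E)} (B : GL (Fin 3) E) :
    Nonempty (Cfsg.projQuot H ≃* Cfsg.projQuot (H.map (MulAut.conj B).toMonoidHom)) := by
  let φ := MulAut.conj B
  let θ : H ≃* H.map φ.toMonoidHom := H.equivMapOfInjective _ φ.injective
  refine ⟨QuotientGroup.congr _ _ θ ?_⟩
  refine le_antisymm ?_ fun y hy => ?_
  · rintro _ ⟨x, hx, rfl⟩
    show φ (x : GL (Fin 3) E) ∈ scalars (Fin 3) E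
    rw [show φ (x : GL (Fin 3) E) = (x : GL (Fin 3) E) from conj_scalar hx]
    exact hx
  · refine ⟨θ.symm y, ?_, θ.apply_symm_apply y⟩
    have e2 : φ ((θ.symm y : H) : GL (Fin 3) E) = (y : GL (Fin 3) E) :=
      congrArg Subtype.val (θ.apply_symm_apply y)
    show ((θ.symm y : H) : GL (Fin 3) E) ∈ scalars (Fin 3) E
    have : ((θ.symm y : H) : GL (Fin 3) E) = (y : GL (Fin 3) E) :=
      φ.injective (e2.trans (conj_scalar hy).symm)
    rw [this]
    exact hy

variable {F : Type*} [Field F] [Fintype F]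

/-- A core with a flag but no incident flags: the unitary groups. -/
theorem concl_unitary (p α : ℕ) [hp : Fact p.Prime] (hp2 : p ≠ 2) (hF : Fintype.card F = p ^ α)
    (E : Subfield F) [Fintype E] [CharP E p] {H P : Subgroup (GL (Fin 3) E)} (hr : Red H P)
    (hcc : CubeCond F E H) (hc : PGLThree.Ctx P) (hd : ¬ PGLThree.Double P) {v a : Fin 3 → E}
    (hfl : SLThree.Flag P v a) : Concl p α (Cfsg.projQuot H) := by
  classical
  obtain ⟨σ, hne, htr, hcard⟩ := PGLThree.not_single p hc hd hfl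
  obtain ⟨γ, hγ, hγα, hE⟩ := exists_degree p α hF E
  obtain ⟨r, hr0⟩ : ∃ r, r = Nat.card (scal P v a hfl.dot) := ⟨_, rfl⟩
  have hEr : Fintype.card E = r ^ 2 := by rw [hr0]; exact (hcard v a hfl).symm
  obtain ⟨β, hβ⟩ : ∃ β, r = p ^ β := by
    obtain ⟨β, -, h⟩ := (Nat.dvd_prime_pow hp.out).1 (show r ∣ p ^ γ from hE ▸ hEr ▸ dvd_pow_self r two_ne_zero)
    exact ⟨β, h⟩
  have hγβ : γ = 2 * β := Nat.pow_right_injective hp.out.two_le
    (show p ^ γ = p ^ (2 * β) by rw [← hE, hEr, hβ, mul_comm, pow_mul])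
  have hr3 : 3 ≤ r := by
    have hp3 : 3 ≤ p := by have := hp.out.two_le; omega
    rw [hβ]
    exact hp3.trans (Nat.le_self_pow (by omega) p)
  obtain ⟨τ, hconj⟩ := CfsgLib.AschbacherUnitary.exists_isConj (F := E) hEr
  have hστ : σ = τ := AutPSL.eq_of_sq_eq_one hne hconj.ne_refl
    (RingEquiv.ext fun x => by rw [pow_two]; exact hc.involutive htr x)
    (RingEquiv.ext fun x => by rw [pow_two]; exact hconj.involutive x)
  subst hστ
  have hbar : Circle.IsBar r σ := ⟨hconj.eq_pow, hEr, hne, hconj.involutive⟩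
  obtain ⟨f, hf, hfix⟩ : ∃ f, IsUnitaryForm σ f ∧ FixesForm (matrixSet P) f := by
    rcases PGLThree.exists_form_of_traces hc.core.absIrred σ hconj.involutive htr with h | ⟨-, h⟩
    · exact h
    · exact absurd h hc.noQuad
  obtain ⟨hGu, hGh⟩ := gram_hermitian hf
  have hG : ∀ x ∈ P, (mat x)ᵀ * gramMatrix f * (mat x).map σ = gramMatrix f := fun x hx => by
    have := (isSesq_of_unitary hf).gram_of_eq (c := (1 : E)) (g := mat x)
      (fun u w => by rw [one_mul]; exact hfix _ (mem_matrixSet hx) u w)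
    rwa [one_smul] at this
  obtain ⟨A, hA⟩ := exists_congr_one hne hconj.involutive hGu hGh
  let φ := MulAut.conj A⁻¹
  let H' := H.map φ.toMonoidHom
  let P' := P.map φ.toMonoidHom
  have hAx : ∀ x : GL (Fin 3) E, mat A * mat (φ x) = mat x * mat A := fun x => by
    simp [φ, mat, MulAut.conj_apply, ← mul_assoc]
  have hgram : ∀ (x : GL (Fin 3) E) (μ : E),
      (mat x)ᵀ * gramMatrix f * (mat x).map σ = μ • gramMatrix f →
      (mat (φ x))ᵀ * (mat (φ x)).map σ = μ • 1 := by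
    intro x μ hx
    calc (mat (φ x))ᵀ * (mat (φ x)).map σ
        = (mat (φ x))ᵀ * ((mat A)ᵀ * gramMatrix f * (mat A).map σ) * (mat (φ x)).map σ := by
          rw [hA, mul_one]
      _ = (mat A * mat (φ x))ᵀ * gramMatrix f * (mat A * mat (φ x)).map σ := by
          rw [Matrix.transpose_mul, Matrix.map_mul]; simp only [mul_assoc]
      _ = (mat A)ᵀ * ((mat x)ᵀ * gramMatrix f * (mat x).map σ) * (mat A).map σ := by
          rw [hAx, Matrix.transpose_mul, Matrix.map_mul]; simp only [mul_assoc]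
      _ = μ • 1 := by rw [hx, mul_smul_comm, smul_mul_assoc, hA]
  have hPG : P' ≤ Cfsg.GU 3 E r := by
    rintro _ ⟨x, hx, rfl⟩
    rw [hconj.mem_GU_iff]
    exact (hgram x 1 (by rw [one_smul]; exact hG x hx)).trans (one_smul _ _)
  have hfr : IsUnitaryForm σ (Cfsg.hermForm 3 E r) := hconj.unitary
  -- the root group
  obtain ⟨s₀, hs₀, hs0⟩ := hfl.scal_ne_bot
  obtain ⟨u₀, hu₀⟩ : ∃ u₀, u₀ = s₀ • v := ⟨_, rfl⟩
  have hflu : SLThree.Flag P u₀ a := hu₀ ▸ hfl.smul_centre hs0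
  have hu₀m : tv u₀ a ∈ P := hu₀ ▸ hs₀
  obtain ⟨u, hu⟩ : ∃ u, u = mat A⁻¹ *ᵥ u₀ := ⟨_, rfl⟩
  obtain ⟨b, hb⟩ : ∃ b, b = a ᵥ* mat A := ⟨_, rfl⟩
  have htv : ∀ s : E, φ (tv (s • u₀) a) = tv (s • u) b := fun s => by
    show A⁻¹ * tv (s • u₀) a * A⁻¹⁻¹ = _
    rw [conj_tv, inv_inv, mulVec_smul, hu, hb]
  have hbu : b ⬝ᵥ u = 0 := by
    rw [hu, hb, ← dotProduct_mulVec, mulVec_mulVec]
    show a ⬝ᵥ (((A : Matrix (Fin 3) (Fin 3) E) * ((A⁻¹ : GL (Fin 3) E) : Matrix (Fin 3) (Fin 3) E)) *ᵥ u₀) = 0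
    rw [Units.mul_inv, one_mulVec]
    exact hflu.dot
  have hu0 : u ≠ 0 := fun e => hflu.centre_ne (by
    have h1 := congrArg (mat A *ᵥ ·) (hu.symm.trans e)
    simpa [mulVec_inv_mulVec] using h1)
  have hb0 : b ≠ 0 := fun e => hflu.axis_ne (by
    have h1 := congrArg (· ᵥ* mat A⁻¹) (hb.symm.trans e)
    simpa [vecMul_vecMul, mat] using h1)
  obtain ⟨huu, d, hd0, -, had⟩ := PGLThree.tv_unitary hfr hu0 hb0 hbu (hPG ⟨_, hu₀m, by
    have := htv 1
    rwa [one_smul, one_smul] at this⟩)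
  have hcen : CentreIn r σ P' u := by
    obtain ⟨ℓ, hℓ⟩ : ∃ ℓ, ℓ = leftVec (Cfsg.hermForm 3 E r) u := ⟨_, rfl⟩
    rw [← hℓ] at had
    let S : Finset E := Finset.univ.filter (fun c => σ c = -c)
    let T : Finset E := (Finset.univ.filter (fun s => s ∈ scal P u₀ a hflu.dot)).image (· * d)
    have hTS : T ⊆ S := by
      intro c hc'
      obtain ⟨s, hs, rfl⟩ := Finset.mem_image.1 hc'
      have hs' : tv (s • u) b ∈ P' := htv s ▸ Subgroup.mem_map_of_mem φ.toMonoidHom (Finset.mem_filter.1 hs).2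
      refine Finset.mem_filter.2 ⟨Finset.mem_univ _, ?_⟩
      rcases eq_or_ne s 0 with rfl | hs1
      · simp
      obtain ⟨-, t, -, ht, hat⟩ := PGLThree.tv_unitary hfr (smul_ne_zero hs1 hu0) hb0
        (by rw [dotProduct_smul, hbu, smul_zero]) (hPG hs')
      rw [(sesqForm_of_unitary hfr).leftVec_smul, smul_smul, ← hℓ, had] at hat
      have hℓ0 : ℓ ≠ 0 := fun e => hb0 (by rw [had, e, smul_zero])
      have e : d = t * σ s := smul_left_injective E hℓ0 hat
      rw [e, map_mul, map_mul, ht, hconj.involutive]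
      ring
    have hS : S.card ≤ r := by
      obtain ⟨g, hgdef⟩ : ∃ g : Polynomial E, g = Polynomial.X ^ r + Polynomial.X := ⟨_, rfl⟩
      have hdeg : g.natDegree = r := by
        rw [hgdef, Polynomial.natDegree_add_eq_left_of_natDegree_lt] <;>
          simp only [Polynomial.natDegree_X_pow, Polynomial.natDegree_X]
        omega
      have hg0 : g ≠ 0 := fun e => by rw [e, Polynomial.natDegree_zero] at hdeg; omega
      have hsub : S ⊆ g.roots.toFinset := fun c hc' => by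
        rw [Multiset.mem_toFinset, Polynomial.mem_roots hg0, hgdef]
        simp [← hconj.eq_pow, (Finset.mem_filter.1 hc').2]
      exact (Finset.card_le_card hsub).trans
        ((Multiset.toFinset_card_le _).trans ((Polynomial.card_roots' g).trans hdeg.le))
    have hT : T.card = r := by
      rw [Finset.card_image_of_injective _ (mul_left_injective₀ hd0),
        ← Fintype.card_subtype, ← Nat.card_eq_fintype_card]
      exact Nat.pow_left_injective two_ne_zero ((hcard u₀ a hflu).trans hEr)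
    intro c hc'
    have hcT : c ∈ T := (Finset.eq_of_subset_of_card_le hTS (hT ▸ hS)).symm ▸
      Finset.mem_filter.2 ⟨Finset.mem_univ _, hc'⟩
    obtain ⟨s, hs, rfl⟩ := Finset.mem_image.1 hcT
    have hs' : tv (s • u) b ∈ P' := htv s ▸ Subgroup.mem_map_of_mem φ.toMonoidHom (Finset.mem_filter.1 hs).2
    rw [uTv, mul_comm, ← smul_smul, ← tv_smul_right, ← hℓ, ← had]
    exact hs'
  have hSUP : Cfsg.GU 3 E r ⊓ specialLinear (Fin 3) E ≤ H' :=
    (CfsgLib.SUThree.su_le_of_centre hfr hbar hr3 hPG (irreducible_map_conj hc.core.irreducible A⁻¹)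
      huu hu0 hcen).trans (Subgroup.map_mono hr.le)
  -- similarities
  have hsim : ∀ g ∈ H', ∃ (c : Eˣ) (g₁ : GL (Fin 3) E), g₁ ∈ Cfsg.GU 3 E r ∧
      mat g = (c : E) • mat g₁ := by
    rintro _ ⟨h, hh, rfl⟩
    obtain ⟨μ, hμ0, hμ, hM⟩ := exists_similar hconj.involutive hGu hGh hc.core.absIrred hG
      (fun x hx => hr.normed h hh x hx)
    obtain ⟨c, hcμ⟩ := CfsgLib.SUThree.exists_norm_eq hbar hμ
    have hc0 : c ≠ 0 := fun e => hμ0 (by rw [← hcμ, e, zero_mul])
    have h1 := hgram h μ hM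
    let g₁ : GL (Fin 3) E := Matrix.GeneralLinearGroup.mkOfDetNeZero (c⁻¹ • mat (φ h)) (by
      rw [det_smul]
      exact mul_ne_zero (pow_ne_zero _ (inv_ne_zero hc0))
        ((Matrix.isUnit_iff_isUnit_det _).1 (φ h).isUnit).ne_zero)
    refine ⟨Units.mk0 c hc0, g₁, ?_, ?_⟩
    · rw [hconj.mem_GU_iff, show mat g₁ = c⁻¹ • mat (φ h) from rfl, transpose_smul,
        show (c⁻¹ • mat (φ h)).map σ = σ c⁻¹ • (mat (φ h)).map σ from by ext i j; simp [map_mul],
        smul_mul_assoc, mul_smul_comm, smul_smul, h1, smul_smul, ← hcμ, map_inv₀]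
      rw [show c⁻¹ * (σ c)⁻¹ * (c * σ c) = 1 by
        field_simp [hc0, (map_ne_zero σ).2 hc0], one_smul]
    · show mat (φ h) = c • (c⁻¹ • mat (φ h))
      rw [smul_smul, mul_inv_cancel₀ hc0, one_smul]
  have hnorm : ∀ g₁ ∈ Cfsg.GU 3 E r, (mat g₁).det * σ (mat g₁).det = 1 := fun g₁ hg₁ => by
    have h1 := congrArg Matrix.det (hconj.mem_GU_iff.1 hg₁)
    rwa [det_mul, det_transpose, det_one,
      show ((mat g₁).map σ).det = σ (mat g₁).det from (RingHom.map_det σ.toRingHom (mat g₁)).symm] at h1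
  have hS' : scalars (Fin 3) E ≤ H' := fun z hz => ⟨z, hr.sub.scal hz, conj_scalar hz⟩
  let i : Cfsg.SU 3 E r →* GL (Fin 3) E := Matrix.SpecialLinearGroup.toGL.comp (Cfsg.SU 3 E r).subtype
  have hiH : ∀ x, i x ∈ H' := fun x => hSUP ⟨x.2, mem_specialLinear_iff.2 x.1.2⟩
  have hker : ∀ x, i x ∈ scalars (Fin 3) E ↔ x ∈ Subgroup.center (Cfsg.SU 3 E r) := fun x => by
    constructor
    · intro h
      refine Subgroup.mem_center_iff.2 fun y => Subtype.ext
        (Matrix.SpecialLinearGroup.toGL_injective ?_)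
      show Matrix.SpecialLinearGroup.toGL (y.1 * x.1) = Matrix.SpecialLinearGroup.toGL (x.1 * y.1)
      rw [map_mul, map_mul]
      exact (scalars_comm' h).symm
    · intro h
      obtain ⟨c, hcx⟩ := CfsgLib.Forms4.exists_scalar_of_mem_center hEr (by norm_num) h
      have hc0 : c ≠ 0 := fun e => by
        have := x.1.2
        rw [hcx, e, zero_smul, Matrix.det_zero] at this
        exact zero_ne_one this
      exact (mem_scalars_iff _).2 ⟨Units.mk0 c hc0, hcx⟩
  have hcube : ∀ g ∈ H', (∃ e : E, e ^ 3 = (mat g).det) → ∃ x, ∃ z ∈ scalars (Fin 3) E, i x * z = g := by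
    rintro g hg ⟨e, he⟩
    obtain ⟨c, g₁, hg₁, hgc⟩ := hsim g hg
    have hN := hnorm g₁ hg₁
    have hdg : (mat g).det = (c : E) ^ 3 * (mat g₁).det := by
      rw [hgc, det_smul, Fintype.card_fin]
    obtain ⟨e₁, he₁⟩ : ∃ e₁ : E, e₁ ^ 3 = (mat g₁).det := ⟨e / c, by
      rw [div_pow, he, hdg, mul_div_cancel_left₀ _ (pow_ne_zero _ c.ne_zero)]⟩
    have hn3 : (e₁ * σ e₁) ^ 3 = 1 := by rw [mul_pow, ← map_pow, he₁, hN]
    -- the cube root of norm one
    obtain ⟨e₂, he₂⟩ : ∃ e₂, e₂ = e₁ * (e₁ * σ e₁) := ⟨_, rfl⟩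
    have he3 : e₂ ^ 3 = (mat g₁).det := by rw [he₂, mul_pow, hn3, mul_one, he₁]
    have heN : e₂ * σ e₂ = 1 := by
      rw [he₂, map_mul, map_mul, hconj.involutive, ← hn3]; ring
    have he0 : e₂ ≠ 0 := fun h => by rw [h, zero_mul] at heN; exact zero_ne_one heN
    have hd1 : (e₂⁻¹ • mat g₁).det = 1 := by
      rw [det_smul, Fintype.card_fin, inv_pow, he3]
      exact inv_mul_cancel₀ (fun h => by rw [h, zero_mul] at hN; exact zero_ne_one hN)
    let x₁ : Matrix.SpecialLinearGroup (Fin 3) E := ⟨e₂⁻¹ • mat g₁, hd1⟩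
    have hx : Matrix.SpecialLinearGroup.toGL x₁ ∈ Cfsg.GU 3 E r := by
      rw [hconj.mem_GU_iff,
        show mat (Matrix.SpecialLinearGroup.toGL x₁) = e₂⁻¹ • mat g₁ from rfl, transpose_smul,
        show (e₂⁻¹ • mat g₁).map σ = σ e₂⁻¹ • (mat g₁).map σ from by ext i j; simp [map_mul],
        smul_mul_assoc, mul_smul_comm, smul_smul, hconj.mem_GU_iff.1 hg₁, map_inv₀, ← mul_inv, heN,
        inv_one, one_smul]
    let z : GL (Fin 3) E := Units.map (Matrix.scalar (Fin 3) : E →+* Matrix (Fin 3) (Fin 3) E).toMonoidHom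
      (c * Units.mk0 e₂ he0)
    refine ⟨⟨x₁, hx⟩, z, ⟨_, rfl⟩, Units.ext ?_⟩
    show (e₂⁻¹ • mat g₁) * Matrix.scalar (Fin 3) ((c : E) * e₂) = mat g
    rw [hgc]
    ext k l
    simp only [Matrix.scalar_apply, Matrix.mul_diagonal, Matrix.smul_apply, smul_eq_mul]
    field_simp
  obtain ⟨eH⟩ := nonempty_projQuot_conj (H := H) A⁻¹
  obtain ⟨K, iK, iKf, hK, ⟨eE⟩⟩ := exists_type_field hγ hE
  obtain ⟨eP⟩ := CfsgLib.Forms.UThreeTwo.nonempty_psu_equiv eE 3 r
  rw [hγβ] at hK hγα hE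
  rw [hβ] at eP
  rcases quot_of_image hS' i hiH hker (fun x => x.1.2) hcube with hq | ⟨⟨g, hg, hgne⟩, L, hL, ⟨f'⟩⟩
  · obtain ⟨f'⟩ := hq
    exact Or.inr (Or.inl ⟨K, iK, iKf, β, hK, hγα, ⟨((eH.trans f').trans (by rw [hβ])).trans eP⟩⟩)
  · obtain ⟨h, hh, hhg⟩ := hg
    obtain ⟨c, hcd⟩ := hcc h hh
    have hdh : (mat g).det = (mat h).det := by rw [← hhg]; exact det_conj A⁻¹ h
    obtain ⟨-, h3α⟩ := three_dvd_of_cube hp.out.one_lt (by rw [Nat.card_eq_fintype_card, hE]) hF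
      (((Matrix.isUnit_iff_isUnit_det _).1 h.isUnit).ne_zero) hcd (hdh ▸ hgne)
    have h31 : 3 ∣ r + 1 := by
      by_contra h31
      obtain ⟨c₁, g₁, hg₁, hgc⟩ := hsim g ⟨h, hh, hhg⟩
      have hN := hnorm g₁ hg₁
      rw [hconj.eq_pow, ← pow_succ'] at hN
      obtain ⟨k, hk⟩ : ∃ k, (mat g₁).det = ((mat g₁).det ^ k) ^ 3 := by
        rcases (show (r + 1) % 3 = 1 ∨ (r + 1) % 3 = 2 by omega) with hm | hm
        · refine ⟨((r + 1) * 2 + 1) / 3, ?_⟩
          rw [← pow_mul, Nat.div_mul_cancel (by omega), pow_succ, pow_mul, hN, one_pow, one_mul]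
        · refine ⟨(r + 1 + 1) / 3, ?_⟩
          rw [← pow_mul, Nat.div_mul_cancel (by omega), pow_succ, hN, one_mul]
      exact hgne ((c₁ : E) * (mat g₁).det ^ k) (by rw [mul_pow, ← hk, hgc, det_smul, Fintype.card_fin])
    rw [hβ] at h31 f'
    refine Or.inr (Or.inr (Or.inr (Or.inl ⟨K, iK, iKf, β, hK, h31, ?_, L.map eH.symm.toMonoidHom, ?_,
      ⟨((L.equivMapOfInjective _ eH.symm.injective).symm.trans f').trans eP⟩⟩)))
    · rwa [show 6 * β = 3 * (2 * β) by ring]
    · rw [Subgroup.index_map_of_bijective eH.symm.bijective]; exact hL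

end CfsgLib.PSLThreeSub
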