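import Cfsg.Agent.PSLThreeSub.Herm
import Cfsg.Agent.GraphClass.Classes
import Cfsg.Agent.Forms4.OmegaThreeFour
import Cfsg.Agent.DicksonPSL2.PGLStructure

/-!
# Similarities in dimension three are `PGL₂`

A group of similarities of a non-degenerate quadratic form in dimension three, modulo scalars,
embeds into the isometry group modulo `±1`, which is the image of `PGL₂` acting on trace zero
matrices.
-/

set_option autoImplicit false
set_option linter.unusedSectionVars false

open scoped MatrixGroups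

namespace CfsgLib.PSLThreeSub

open Matrix Cfsg.Geo CfsgLib.MaxSub CfsgLib.GraphClass
open CfsgLib.Aschbacher hiding tv

variable {E : Type*} [Field E] [Fintype E]

local notation "U" => (Unit ⊕ (Fin 1 ⊕ Fin 1))

theorem quotient_mk_eq_of_smul {O : Subgroup (GL U E)} {g₁ g₂ : O} {c : E} (hc : c ≠ 0)
    (h : mat (g₂ : GL U E) = c • mat (g₁ : GL U E)) :
    (QuotientGroup.mk g₁ : Cfsg.projQuot O) = QuotientGroup.mk g₂ := by
  refine QuotientGroup.eq.2 (Subgroup.mem_subgroupOf.2 ((mem_scalars_iff _).2 ⟨Units.mk0 c hc, ?_⟩))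
  show mat ((g₁ : GL U E)⁻¹ * (g₂ : GL U E)) = c • 1
  rw [show mat ((g₁ : GL U E)⁻¹ * (g₂ : GL U E)) = mat (g₁ : GL U E)⁻¹ * mat (g₂ : GL U E) from Units.val_mul _ _,
    h, mul_smul_comm, mat_inv_mul]

/-- The isometries of the standard form modulo scalars are `PGL₂`. -/
theorem nonempty_pgl_equiv_projQuot_isometry (hodd : Odd (Fintype.card E)) :
    Nonempty (PGL(2, E) ≃* Cfsg.projQuot (Cfsg.isometryGroup E (Cfsg.quadFormOdd 1 E))) := by
  classical
  have h2 : (2 : E) ≠ 0 := CfsgLib.Linear.two_ne_zero_of_odd hodd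
  set O := Cfsg.isometryGroup E (Cfsg.quadFormOdd 1 E) with hO
  let T : (U → E) →ₗ[E] Matrix (Fin 2) (Fin 2) E :=
    { toFun := fun x => !![x (.inl ()), x (.inr (.inl 0)); x (.inr (.inr 0)), -x (.inl ())]
      map_add' := fun x y => by ext i j; fin_cases i <;> fin_cases j <;> simp [add_comm]
      map_smul' := fun t x => by ext i j; fin_cases i <;> fin_cases j <;> simp }
  let Pr : Matrix (Fin 2) (Fin 2) E →ₗ[E] (U → E) :=
    { toFun := fun M => Sum.elim (fun _ => M 0 0) (Sum.elim (fun _ => M 0 1) fun _ => M 1 0)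
      map_add' := fun M N => by funext i; rcases i with i | i | i <;> simp
      map_smul' := fun t M => by funext i; rcases i with i | i | i <;> simp }
  let A := (Forms4.sandwichHom E).comp ((MonoidHom.id (GL (Fin 2) E)).prod (MonoidHom.id (GL (Fin 2) E)))
  have hPT : ∀ x, Pr (T x) = x := fun x => by
    funext i; rcases i with i | i | i <;> simp [Pr, T, Fin.fin_one_eq_zero]
  have hA : ∀ g x, T (Pr (A g (T x))) = A g (T x) := by
    intro g x
    have htr : (A g (T x)).trace = 0 := by
      show (g.1 * (T x * (g⁻¹).1)).trace = 0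
      rw [trace_mul_comm, mul_assoc, ← Units.val_mul, inv_mul_cancel, Units.val_one, mul_one]
      simp [T, trace_fin_two]
    rw [trace_fin_two] at htr
    ext i j
    fin_cases i <;> fin_cases j <;> simp [T, Pr]
    linear_combination -htr
  have hQT : ∀ x, Cfsg.quadFormOdd 1 E x = -(T x).det := by
    intro x
    simp [T, Cfsg.quadFormOdd, det_fin_two]
    ring
  have hQ : ∀ g x, Cfsg.quadFormOdd 1 E (Pr (A g (T x))) = Cfsg.quadFormOdd 1 E x := by
    intro g x
    rw [hQT, hA, hQT]
    congr 1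
    exact Forms4.det_sandwich (g := (g, g)) rfl _
  obtain ⟨ψ, hψT, -⟩ := Forms4.exists_isoHom (Cfsg.quadFormOdd 1 E) T Pr hPT A hA hQ
  let π := QuotientGroup.mk' ((scalars U E).subgroupOf O)
  have hcen : ∀ g ∈ Subgroup.center (GL (Fin 2) E), ∀ M : Matrix (Fin 2) (Fin 2) E, g.1 * M = M * g.1 := by
    intro g hg M
    rw [Matrix.GeneralLinearGroup.center_eq_range_scalar] at hg
    obtain ⟨u, rfl⟩ := hg
    exact (Matrix.scalar_commute (u : E) (fun _ => Commute.all _ _) M).eq
  -- the kernel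
  have hker : (π.comp ψ).ker = Subgroup.center (GL (Fin 2) E) := by
    refine le_antisymm (fun g hg => ?_) fun g hg => ?_
    · have h1 : ((ψ g : O) : GL U E) ∈ scalars U E :=
        Subgroup.mem_subgroupOf.1 ((QuotientGroup.eq_one_iff _).1 (MonoidHom.mem_ker.1 hg))
      obtain ⟨c, hc⟩ := (mem_scalars_iff _).1 h1
      have h3 : ∀ x, g.1 * T x = (c : E) • (T x * g.1) := fun x => by
        have h4 : g.1 * (T x * (g⁻¹).1) = (c : E) • T x := by
          rw [← map_smul]
          show A g (T x) = _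
          rw [← hψT, show ((ψ g : O) : GL U E).1 = (c : E) • 1 from hc, Matrix.smul_mulVec, Matrix.one_mulVec]
        calc g.1 * T x = g.1 * (T x * (g⁻¹).1) * g.1 := by
              rw [mul_assoc, mul_assoc, ← Units.val_mul, inv_mul_cancel, Units.val_one, mul_one]
          _ = (c : E) • (T x * g.1) := by rw [h4, smul_mul_assoc]
      have hx := h3 (Sum.elim (fun _ => 1) (Sum.elim (fun _ => 0) fun _ => 0))
      have hy := h3 (Sum.elim (fun _ => 0) (Sum.elim (fun _ => 1) fun _ => 0))
      have hz := h3 (Sum.elim (fun _ => 0) (Sum.elim (fun _ => 0) fun _ => 1))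
      have hd := ((Matrix.isUnit_iff_isUnit_det _).1 g.isUnit).ne_zero
      rw [det_fin_two] at hd
      have x00 := congrFun (congrFun hx 0) 0
      have x11 := congrFun (congrFun hx 1) 1
      have y01 := congrFun (congrFun hy 0) 1
      have y00 := congrFun (congrFun hy 0) 0
      have z11 := congrFun (congrFun hz 1) 1
      simp [T, Matrix.mul_apply, Fin.sum_univ_two, Matrix.vecMul, dotProduct] at x00 x11 y01 y00 z11
      -- the scalar is one
      have hc1 : (c : E) = 1 := by
        by_contra hc1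
        have e0 : g.1 0 0 = 0 := mul_left_cancel₀ (sub_ne_zero.2 hc1)
          (by rw [mul_zero]; linear_combination -x00)
        have e1 : g.1 1 1 = 0 := mul_left_cancel₀ (sub_ne_zero.2 hc1)
          (by rw [mul_zero]; linear_combination -x11)
        refine hd ?_
        rw [e0, e1]
        rw [y00]; ring
      rw [hc1, one_smul] at hy hz
      rw [Matrix.GeneralLinearGroup.center_eq_range_scalar]
      have hs := Forms4.scalar_of_commute_sl_two (g := g.1) (by simpa [T] using hy) (by simpa [T] using hz)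
      have h00 : g.1 0 0 ≠ 0 := fun e => by
        rw [e, map_zero] at hs
        exact g.ne_zero hs.symm
      exact ⟨Units.mk0 _ h00, Units.ext hs⟩
    · refine MonoidHom.mem_ker.2 ((QuotientGroup.eq_one_iff _).2 (Subgroup.mem_subgroupOf.2
        ((mem_scalars_iff _).2 ⟨1, Matrix.ext_iff_mulVec.2 fun x => ?_⟩)))
      rw [Units.val_one, one_smul, Matrix.one_mulVec]
      have h5 : T (((ψ g).1 : Matrix U U E) *ᵥ x) = T x := by
        rw [hψT]
        show g.1 * (T x * (g⁻¹).1) = T x
        rw [← mul_assoc, hcen g hg, mul_assoc, ← Units.val_mul, mul_inv_cancel, Units.val_one, mul_one]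
      simpa [hPT] using congrArg Pr h5
  -- counting
  let ζ : PGL(2, E) →* Cfsg.projQuot O := QuotientGroup.lift (Subgroup.center (GL (Fin 2) E)) (π.comp ψ) hker.ge
  have hζi : Function.Injective ζ := by
    rw [← MonoidHom.ker_eq_bot_iff, Subgroup.eq_bot_iff_forall]
    intro x hx
    obtain ⟨g, rfl⟩ := Matrix.ProjGenLinGroup.mk_surjective x
    exact Matrix.ProjGenLinGroup.mk_eq_one.2 (hker ▸ (show g ∈ (π.comp ψ).ker from hx))
  haveI : Finite O := inferInstance
  haveI : Finite PGL(2, E) := Finite.of_surjective _ Matrix.ProjGenLinGroup.mk_surjective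
  have hneg : (-1 : GL U E) ∈ O := by
    rw [hO, CfsgLib.FieldEmb.mem_isometryGroup]
    intro v
    simp [Matrix.neg_mulVec, Cfsg.quadFormOdd, Cfsg.quadFormPlus, sq]
  have hcard : Nat.card (Cfsg.projQuot O) ≤ Nat.card PGL(2, E) := by
    have h1 := Subgroup.card_eq_card_quotient_mul_card_subgroup ((scalars U E).subgroupOf O)
    rw [hO, CfsgLib.Forms4.card_isometryGroup_quadFormOdd rfl hodd 1] at h1
    have h3 : 2 ≤ Nat.card ((scalars U E).subgroupOf O) := by
      let z : (scalars U E).subgroupOf O := ⟨⟨-1, hneg⟩, Subgroup.mem_subgroupOf.2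
        ((mem_scalars_iff _).2 ⟨-1, by simp [mat]⟩)⟩
      have hz : z ≠ 1 := fun e => by
        have := congrArg (fun y : (scalars U E).subgroupOf O => ((y : O) : GL U E).1 (.inl ()) (.inl ())) e
        simp [z] at this
        exact h2 (by linear_combination -this)
      haveI : Nontrivial ((scalars U E).subgroupOf O) := ⟨⟨z, 1, hz⟩⟩
      exact Finite.one_lt_card
    rw [CfsgLib.DicksonPSL2.card_PGL_two]
    simp [-Nat.card_eq_fintype_card, Finset.prod_range_succ] at h1
    have e : Fintype.card E * (Fintype.card E ^ 2 - 1) = Fintype.card E * (Fintype.card E - 1) * (Fintype.card E + 1) := by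
      rw [mul_assoc]; congr 1; rw [mul_comm, ← Nat.sq_sub_sq, one_pow]
    have h6 := Nat.mul_le_mul_left (Nat.card (O ⧸ (scalars U E).subgroupOf O)) h3
    rw [← hO] at h1
    nlinarith
  have hζs : Function.Surjective ζ := by
    rw [← MonoidHom.range_eq_top]
    refine Subgroup.eq_top_of_le_card _ ?_
    rwa [Nat.card_congr (MonoidHom.ofInjective hζi).toEquiv.symm]
  exact ⟨MulEquiv.ofBijective ζ ⟨hζi, hζs⟩⟩

/-- A group of similarities modulo scalars embeds into `PGL₂`. -/
theorem exists_pgl_embedding (hodd : Odd (Fintype.card E)) {H P : Subgroup (GL (Fin 3) E)} (hr : Red H P)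
    (hQ : ∃ Q, IsNondegenerateQuadraticForm Q ∧ FixesQuadForm (matrixSet P) Q) :
    ∃ j : Cfsg.projQuot H →* PGL(2, E), Function.Injective j := by
  classical
  have h2 : (2 : E) ≠ 0 := CfsgLib.Linear.two_ne_zero_of_odd hodd
  obtain ⟨Q, hQn, hQf⟩ := hQ
  obtain ⟨B, hB⟩ : ∃ B, B = gramMatrix (QuadraticMap.polar Q) := ⟨_, rfl⟩
  have hsesq := isSesq_of_bilinear hQn.polar_bilinear
  have hBu : IsUnit B := hB ▸ gram_isUnit hsesq hQn.nondegenerate
  have hBs : Bᵀ = B := by
    rw [hB]; ext i j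
    exact QuadraticMap.polar_comm Q _ _
  have hσid : ∀ M : Matrix (Fin 3) (Fin 3) E, M.map (RingEquiv.refl E) = M := fun M => by ext i j; rfl
  have hfix : ∀ x ∈ P, (mat x)ᵀ * B * (mat x).map (RingEquiv.refl E) = B := fun x hx => by
    have := hsesq.gram_of_eq (c := (1 : E)) (g := mat x) (fun u v => by
      simp only [QuadraticMap.polar, one_mul]
      rw [← Matrix.mulVec_add, hQf _ (mem_matrixSet hx), hQf _ (mem_matrixSet hx), hQf _ (mem_matrixSet hx)])
    rw [one_smul, ← hB] at this
    exact this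
  have hsim : ∀ h ∈ H, ∃ μ : E, μ ≠ 0 ∧ (mat h)ᵀ * B * mat h = μ • B := fun h hh => by
    obtain ⟨μ, hμ, -, e⟩ := exists_similar (σ := RingEquiv.refl E) (fun _ => rfl) hBu
      (by rw [hσid, hBs]) hr.core.absIrred hfix (fun x hx => hr.normed h hh x hx)
    exact ⟨μ, hμ, by rwa [hσid] at e⟩
  -- the standard form
  obtain ⟨e, cU, hcong⟩ := cong_oddM h2 hBs ((Matrix.isUnit_iff_isUnit_det _).1 hBu).ne_zero
    (m := 1) (by simp)
  obtain ⟨O, hO⟩ : ∃ O, O = Cfsg.isometryGroup E (Cfsg.quadFormOdd 1 E) := ⟨_, rfl⟩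
  let L : GL (Fin 3) E → (U → E) →ₗ[E] (U → E) := fun h =>
    e.toLinearMap ∘ₗ toLin' (mat h) ∘ₗ e.symm.toLinearMap
  have hL : ∀ h x, L h x = e (mat h *ᵥ e.symm x) := fun h x => rfl
  have hLmul : ∀ g h x, L (g * h) x = L g (L h x) := fun g h x => by
    rw [hL, hL, hL, e.symm_apply_apply, mulVec_mulVec]; rfl
  have key : ∀ h : H, ∃ (g : O) (c : E), c ≠ 0 ∧ ∀ x, mat (g : GL U E) *ᵥ x = c • L h x := by
    rintro ⟨h, hh⟩
    obtain ⟨μ, hμ, hM⟩ := hsim h hh
    have hdh := ((Matrix.isUnit_iff_isUnit_det _).1 h.isUnit).ne_zero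
    have hdB := ((Matrix.isUnit_iff_isUnit_det _).1 hBu).ne_zero
    have hd : (mat h).det ^ 2 = μ ^ 3 := by
      have h1 := congrArg Matrix.det hM
      rw [det_mul, det_mul, det_transpose, det_smul, Fintype.card_fin] at h1
      exact mul_right_cancel₀ hdB (by linear_combination h1)
    obtain ⟨κ, hκ⟩ : ∃ κ, κ = μ / (mat h).det := ⟨_, rfl⟩
    have hκμ : κ ^ 2 * μ = 1 := by
      rw [hκ]
      field_simp
      linear_combination -hd
    have hκ0 : κ ≠ 0 := fun e0 => by rw [e0] at hκμ; simp at hκμ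
    let M : Matrix U U E := LinearMap.toMatrix' (κ • L h)
    have hMx : ∀ x, M *ᵥ x = κ • L h x := fun x => LinearMap.toMatrix'_mulVec _ x
    have hMu : IsUnit M := by
      rw [← Matrix.mulVec_injective_iff_isUnit]
      intro x y hxy
      simp only [hMx, hL] at hxy
      have h7 := e.injective (smul_right_injective _ hκ0 hxy)
      exact e.symm.injective (Matrix.mulVec_injective_iff_isUnit.2 h.isUnit h7)
    refine ⟨⟨hMu.unit, ?_⟩, κ, hκ0, fun x => hMx x⟩
    rw [hO, CfsgLib.FieldEmb.mem_isometryGroup]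
    intro v
    show Cfsg.quadFormOdd 1 E (M *ᵥ v) = _
    rw [hMx, bil_oddM 1 h2, bil_oddM 1 h2]
    have hb : bil (oddM E 1) (L h v) (L h v) = μ * bil (oddM E 1) v v := by
      rw [hL, hcong]
      conv_rhs => rw [← e.apply_symm_apply v, hcong]
      have h8 : bil B (mat h *ᵥ e.symm v) (mat h *ᵥ e.symm v) = μ * bil B (e.symm v) (e.symm v) := by
        simp only [bil]
        rw [mulVec_mulVec, ← vecMul_transpose, ← dotProduct_mulVec, mulVec_mulVec,
          ← mul_assoc, hM, Matrix.smul_mulVec, dotProduct_smul, smul_eq_mul]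
      rw [h8]; ring
    simp only [bil] at hb ⊢
    rw [Matrix.mulVec_smul, smul_dotProduct, dotProduct_smul, hb, smul_eq_mul, smul_eq_mul]
    linear_combination (v ⬝ᵥ oddM E 1 *ᵥ v) * hκμ
  choose g c hc hg using key
  let π := QuotientGroup.mk' ((scalars U E).subgroupOf O)
  have huniq : ∀ (h : H) (g' : O) (d : E), d ≠ 0 → (∀ x, mat (g' : GL U E) *ᵥ x = d • L h x) →
      π (g h) = π g' := fun h g' d hd hg' => by
    refine quotient_mk_eq_of_smul (c := d / c h) (div_ne_zero hd (hc h)) (Matrix.ext_iff_mulVec.2 fun x => ?_)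
    rw [hg', Matrix.smul_mulVec, hg, smul_smul, div_mul_cancel₀ _ (hc h)]
  let f : H →* Cfsg.projQuot O := MonoidHom.mk' (fun h => π (g h)) fun a b => by
    rw [← map_mul]
    refine huniq _ _ (c a * c b) (mul_ne_zero (hc a) (hc b)) fun x => ?_
    rw [show mat ((g a * g b : O) : GL U E) = mat (g a : GL U E) * mat (g b : GL U E) from Units.val_mul _ _,
      ← mulVec_mulVec, hg, hg, map_smul, smul_smul, Subgroup.coe_mul, hLmul]
  have hfker : f.ker = (scalars (Fin 3) E).subgroupOf H := by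
    refine le_antisymm (fun h hh => ?_) fun h hh => ?_
    · obtain ⟨d, hd⟩ := (mem_scalars_iff _).1
        (Subgroup.mem_subgroupOf.1 ((QuotientGroup.eq_one_iff _).1 (MonoidHom.mem_ker.1 hh)))
      refine Subgroup.mem_subgroupOf.2 ((mem_scalars_iff _).2
        ⟨d * (Units.mk0 _ (hc h))⁻¹, Matrix.ext_iff_mulVec.2 fun y => ?_⟩)
      have h1 := hg h (e y)
      rw [show mat ((g h : O) : GL U E) = (d : E) • 1 from hd, Matrix.smul_mulVec, Matrix.one_mulVec, hL,
        e.symm_apply_apply, ← map_smul, ← map_smul] at h1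
      rw [Matrix.smul_mulVec, Matrix.one_mulVec, Units.val_mul, Units.val_inv_eq_inv_val, Units.val_mk0]
      calc mat (h : GL (Fin 3) E) *ᵥ y = (c h)⁻¹ • c h • mat (h : GL (Fin 3) E) *ᵥ y := by
            rw [inv_smul_smul₀ (hc h)]
        _ = ((d : E) * (c h)⁻¹) • y := by rw [← e.injective h1, smul_smul, mul_comm]
    · obtain ⟨d, hd⟩ := (mem_scalars_iff _).1 (Subgroup.mem_subgroupOf.1 hh)
      refine MonoidHom.mem_ker.2 ((huniq h 1 ((d : E))⁻¹ (inv_ne_zero d.ne_zero) fun x => ?_).trans (map_one π))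
      rw [hL, show mat (h : GL (Fin 3) E) = (d : E) • 1 from hd, Matrix.smul_mulVec, Matrix.one_mulVec,
        map_smul, e.apply_symm_apply, smul_smul, inv_mul_cancel₀ d.ne_zero, one_smul]
      simp [mat]
  obtain ⟨eζ⟩ := nonempty_pgl_equiv_projQuot_isometry (E := E) hodd
  subst hO
  refine ⟨eζ.symm.toMonoidHom.comp (QuotientGroup.lift _ f hfker.ge), fun a b hab => ?_⟩
  have h1 := eζ.symm.injective hab
  obtain ⟨x, rfl⟩ := QuotientGroup.mk_surjective a
  obtain ⟨y, rfl⟩ := QuotientGroup.mk_surjective b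
  refine QuotientGroup.eq.2 (hfker ▸ MonoidHom.mem_ker.2 ?_)
  rw [map_mul, map_inv, show f x = f y from h1, inv_mul_cancel]

end CfsgLib.PSLThreeSub
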