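import Cfsg.Agent.PSLThreeSub.Descent
import Mathlib.LinearAlgebra.Matrix.ProjectiveSpecialLinearGroup

/-!
# Reduction of a subgroup of `PSL₃(F)` to a group of matrices over its field of traces
-/

set_option autoImplicit false
set_option linter.unusedSectionVars false
set_option linter.style.haveILetI false

namespace CfsgLib.PSLThreeSub

open Matrix Cfsg.Geo CfsgLib.Aschbacher
open scoped commutatorElement

/-- Abelian normal subgroups are trivial. -/
def NoAbelian (G : Type*) [Group G] : Prop := ∀ N : Subgroup G, N.Normal → IsMulCommutative N → N = ⊥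

theorem NoAbelian.of_elementary {G : Type*} [Group G] [Finite G]
    (h : ∀ N : Subgroup G, N.Normal → IsMulCommutative N → (∃ r : ℕ, r.Prime ∧ ∀ x ∈ N, x ^ r = 1) → N = ⊥) :
    NoAbelian G := by
  intro N hN hc
  by_contra hne
  obtain ⟨r, hr, hd⟩ := Nat.exists_prime_and_dvd (fun e => hne (Subgroup.card_eq_one.1 e))
  haveI := Fact.mk hr
  have hcomm : ∀ x ∈ N, ∀ y ∈ N, x * y = y * x := fun x hx y hy =>
    congrArg Subtype.val (hc.is_comm.comm (⟨x, hx⟩ : N) ⟨y, hy⟩)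
  let M : Subgroup G :=
    { carrier := {x | x ∈ N ∧ x ^ r = 1}
      one_mem' := ⟨one_mem _, one_pow _⟩
      mul_mem' := fun {x y} hx hy => ⟨mul_mem hx.1 hy.1, by
        rw [Commute.mul_pow (hcomm x hx.1 y hy.1), hx.2, hy.2, one_mul]⟩
      inv_mem' := fun {x} hx => ⟨inv_mem hx.1, by rw [inv_pow, hx.2, inv_one]⟩ }
  have hMn : M.Normal := ⟨fun x hx g => ⟨hN.conj_mem x hx.1 g, by rw [conj_pow, hx.2]; group⟩⟩
  have hMc : IsMulCommutative M :=
    ⟨⟨fun x y => Subtype.ext (hcomm x.1 x.2.1 y.1 y.2.1)⟩⟩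
  have e := h M hMn hMc ⟨r, hr, fun x hx => hx.2⟩
  obtain ⟨x, hx⟩ := exists_prime_orderOf_dvd_card' (G := N) r hd
  have hxM : (x : G) ∈ M :=
    ⟨x.2, by rw [← SubmonoidClass.coe_pow, ← hx, pow_orderOf_eq_one]; rfl⟩
  rw [e, Subgroup.mem_bot] at hxM
  have : x = 1 := Subtype.ext hxM
  rw [this, orderOf_one] at hx
  exact hr.ne_one hx.symm

theorem NoAbelian.of_equiv {G G' : Type*} [Group G] [Group G'] (h : NoAbelian G) (e : G ≃* G') :
    NoAbelian G' := by
  intro N hN hc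
  have h1 := h (N.comap e.toMonoidHom) inferInstance ⟨⟨fun x y => Subtype.ext (e.injective (by
    show e (x.1 * y.1) = e (y.1 * x.1)
    rw [map_mul, map_mul]
    exact congrArg Subtype.val (hc.is_comm.comm (⟨e x.1, x.2⟩ : N) ⟨e y.1, y.2⟩)))⟩⟩
  refine (Subgroup.eq_bot_iff_forall _).2 fun y hy => ?_
  obtain ⟨x, rfl⟩ := e.surjective y
  have hx : x ∈ (⊥ : Subgroup G) := h1 ▸ (show x ∈ N.comap e.toMonoidHom from hy)
  rw [Subgroup.mem_bot.1 hx, map_one]

variable {F : Type*} [Field F]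

local notation "S₃" => scalars (Fin 3) F

theorem sub_of_proj {H : Subgroup (GL (Fin 3) F)} (hS : S₃ ≤ H) (hnt : Nontrivial (Cfsg.projQuot H))
    (hab : NoAbelian (Cfsg.projQuot H)) : Sub H := by
  refine ⟨hS, fun hle => ?_, fun N hSN hNH hn hcN x hx => ?_⟩
  · refine (not_subsingleton (Cfsg.projQuot H)) ⟨fun a b => ?_⟩
    obtain ⟨x, rfl⟩ := QuotientGroup.mk_surjective a
    obtain ⟨y, rfl⟩ := QuotientGroup.mk_surjective b
    exact QuotientGroup.eq.2 (Subgroup.mem_subgroupOf.2 (hle (x⁻¹ * y).2))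
  · let π := QuotientGroup.mk' ((scalars (Fin 3) F).subgroupOf H)
    have hN' : ((N.subgroupOf H).map π).Normal :=
      (Subgroup.normal_subgroupOf_of_le_normalizer hn.le_normalizer).map π
        (QuotientGroup.mk'_surjective _)
    have h1 := hab _ hN' ⟨⟨?_⟩⟩
    · have : π ⟨x, hNH hx⟩ ∈ (N.subgroupOf H).map π := Subgroup.mem_map_of_mem _ (show x ∈ N from hx)
      rw [h1, Subgroup.mem_bot] at this
      exact Subgroup.mem_subgroupOf.1 ((QuotientGroup.eq_one_iff _).1 this)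
    · rintro ⟨_, a, ha, rfl⟩ ⟨_, b, hb, rfl⟩
      refine Subtype.ext ?_
      show π a * π b = π b * π a
      rw [← commutatorElement_eq_one_iff_mul_comm, ← map_commutatorElement]
      exact (QuotientGroup.eq_one_iff _).2
        (Subgroup.mem_subgroupOf.2 (hcN (Subgroup.commutator_mem_commutator ha hb)))

theorem nonempty_equiv_of_ker {A B : Type*} [Group A] [Group B] {K : Subgroup A} [K.Normal]
    (ρ : A →* B) (hker : ρ.ker = K) (hs : Function.Surjective ρ) : Nonempty (A ⧸ K ≃* B) :=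
  ⟨(QuotientGroup.quotientMulEquivOfEq hker.symm).trans
    (QuotientGroup.quotientKerEquivOfSurjective ρ hs)⟩

variable [Fintype F]

/-- The matrices over a scalar multiple of a subgroup of `PSL₃(F)`. -/
theorem exists_matrices (H : Subgroup (Matrix.ProjectiveSpecialLinearGroup (Fin 3) F)) :
    ∃ M : Subgroup (GL (Fin 3) F), S₃ ≤ M ∧ (∀ g ∈ M, ∃ c : F, c ^ 3 = (mat g).det) ∧
      Nonempty (H ≃* Cfsg.projQuot M) := by
  classical
  let SL := Matrix.SpecialLinearGroup (Fin 3) F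
  let Ht : Subgroup SL := H.comap (QuotientGroup.mk' (Subgroup.center SL))
  let M := Ht.map Matrix.SpecialLinearGroup.toGL ⊔ S₃
  have hHt : ∀ x : Ht, Matrix.SpecialLinearGroup.toGL (x : SL) ∈ M := fun x =>
    Subgroup.mem_sup_left (Subgroup.mem_map_of_mem _ x.2)
  have hdet : ∀ g ∈ M, ∃ c : F, c ^ 3 = (mat g).det := by
    intro g hg
    obtain ⟨a, ⟨x, -, rfl⟩, z, hz, rfl⟩ := mem_sup_scalars.1 hg
    obtain ⟨c, hc⟩ := (mem_scalars_iff z).1 hz
    refine ⟨c, ?_⟩
    show _ = ((x : Matrix (Fin 3) (Fin 3) F) * (z : Matrix (Fin 3) (Fin 3) F)).det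
    rw [det_mul, x.2, hc, one_mul, det_smul, det_one, mul_one, Fintype.card_fin]
  let ρ : Ht →* Cfsg.projQuot M :=
    (QuotientGroup.mk' ((scalars (Fin 3) F).subgroupOf M)).comp
      ((Matrix.SpecialLinearGroup.toGL.comp Ht.subtype).codRestrict M hHt)
  let χ : Ht →* H := ((QuotientGroup.mk' (Subgroup.center SL)).comp Ht.subtype).codRestrict H fun x => x.2
  have hsc : ∀ x : SL, Matrix.SpecialLinearGroup.toGL x ∈ S₃ ↔ x ∈ Subgroup.center SL := fun x => by
    rw [Matrix.SpecialLinearGroup.mem_center_iff]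
    constructor
    · intro h
      obtain ⟨c, hc⟩ := (mem_scalars_iff _).1 h
      have e : (x : Matrix (Fin 3) (Fin 3) F) = (c : F) • 1 := hc
      refine ⟨c, ?_, by rw [e, Matrix.smul_one_eq_diagonal]; rfl⟩
      have := x.2
      rwa [e, det_smul, det_one, mul_one] at this
    · rintro ⟨r, hr, hx⟩
      have hr0 : r ≠ 0 := fun e => by simp [e] at hr
      refine (mem_scalars_iff _).2 ⟨Units.mk0 r hr0, ?_⟩
      show (x : Matrix (Fin 3) (Fin 3) F) = r • 1
      rw [← hx, Matrix.smul_one_eq_diagonal]; rfl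
  have hkρ : ρ.ker = (Subgroup.center SL).subgroupOf Ht := by
    ext x
    rw [MonoidHom.mem_ker, Subgroup.mem_subgroupOf]
    exact (QuotientGroup.eq_one_iff _).trans (Subgroup.mem_subgroupOf.trans (hsc _))
  have hkχ : χ.ker = (Subgroup.center SL).subgroupOf Ht := by
    ext x
    rw [MonoidHom.mem_ker, Subgroup.mem_subgroupOf, Subtype.ext_iff]
    exact QuotientGroup.eq_one_iff _
  have hsχ : Function.Surjective χ := fun y => by
    obtain ⟨x, hx⟩ := QuotientGroup.mk'_surjective _ y.1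
    exact ⟨⟨x, show _ ∈ H by rw [hx]; exact y.2⟩, Subtype.ext hx⟩
  have hsρ : Function.Surjective ρ := fun q => by
    obtain ⟨⟨g, hg⟩, rfl⟩ := QuotientGroup.mk'_surjective _ q
    obtain ⟨a, ⟨x, hx, rfl⟩, z, hz, rfl⟩ := mem_sup_scalars.1 hg
    refine ⟨⟨x, hx⟩, QuotientGroup.eq.2 (Subgroup.mem_subgroupOf.2 ?_)⟩
    show (Matrix.SpecialLinearGroup.toGL x)⁻¹ * (Matrix.SpecialLinearGroup.toGL x * z) ∈ S₃
    rwa [inv_mul_cancel_left]
  obtain ⟨e1⟩ := nonempty_equiv_of_ker χ hkχ hsχ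
  obtain ⟨e2⟩ := nonempty_equiv_of_ker ρ hkρ hsρ
  exact ⟨M, le_sup_right, hdet, ⟨e1.symm.trans e2⟩⟩

/-- The reduced situation over the field of traces. -/
theorem exists_reduced (hodd : Odd (Fintype.card F))
    (H : Subgroup (Matrix.ProjectiveSpecialLinearGroup (Fin 3) F)) (hH : H ≠ ⊥) (hab : NoAbelian H) :
    ∃ (E : Subfield F) (H₁ P : Subgroup (GL (Fin 3) E)), Sub H₁ ∧ CubeCond F E H₁ ∧ P ≤ H₁ ∧
      Normed H₁ P ∧ PGLThree.Core P ∧
      (∀ h ∈ H₁, (∀ x ∈ P, h * x * h⁻¹ * x⁻¹ ∈ scalars (Fin 3) E) → h ∈ scalars (Fin 3) E) ∧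
      (∀ E₀ : Subfield E, (∀ g ∈ P, (mat g).trace ∈ E₀) → E₀ = ⊤) ∧
      Nonempty (H ≃* Cfsg.projQuot H₁) := by
  classical
  obtain ⟨M, hMS, hdet, ⟨e⟩⟩ := exists_matrices H
  haveI : Nontrivial H := (Subgroup.nontrivial_iff_ne_bot H).2 hH
  obtain ⟨P, hPM, hPn, hPc, -⟩ := (sub_of_proj hMS e.symm.toEquiv.nontrivial (hab.of_equiv e)).exists_core hodd
  let E : Subfield F := Subfield.closure ((fun g : GL (Fin 3) F => (mat g).trace) '' (P : Set _))
  obtain ⟨B, hB⟩ := MaxSub.realisable_of_traces hPc.absIrred (F₀ := E)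
    (fun g hg => Subfield.subset_closure ⟨g, hg, rfl⟩)
  haveI : Fintype E := Fintype.ofFinite E
  let φ := MulAut.conj B
  let M' := M.map φ.toMonoidHom
  let P' := P.map φ.toMonoidHom
  have hM'S : S₃ ≤ M' := fun z hz => ⟨z, hMS hz, conj_scalar hz⟩
  have hdet' : ∀ g ∈ M', ∃ c : F, c ^ 3 = (mat g).det := by
    rintro _ ⟨g, hg, rfl⟩
    obtain ⟨c, hc⟩ := hdet g hg
    refine ⟨c, ?_⟩
    show _ = ((B : Matrix (Fin 3) (Fin 3) F) * g * ((B⁻¹ : GL (Fin 3) F) : Matrix (Fin 3) (Fin 3) F)).det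
    rw [det_mul, det_mul, hc, mul_right_comm, ← det_mul, Units.mul_inv, det_one, one_mul]
  have hrat : P' ≤ (incl E).range := by
    rintro _ ⟨g, hg, rfl⟩
    exact exists_incl fun i j => hB _ (mem_matrixSet hg) i j
  have hP'n : ∀ h ∈ M', ∀ x ∈ P', h * x * h⁻¹ ∈ P' := by
    rintro _ ⟨h, hh, rfl⟩ _ ⟨x, hx, rfl⟩
    exact ⟨_, hPn h hh x hx, by rw [map_mul, map_mul, map_inv]⟩
  have habs' : ActsAbsolutelyIrreducibly (matrixSet P') := by
    refine ⟨fun W hW => ?_, fun A hA => ?_⟩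
    · have h1 := hPc.absIrred.1 (W.comap (toLin' (mat B))) (forall_matrixSet.2 fun g hg => by
        rintro _ ⟨w, hw, rfl⟩
        rw [Submodule.mem_comap, toLin'_apply, toLin'_apply]
        have := hW _ (mem_matrixSet (Subgroup.mem_map_of_mem φ.toMonoidHom hg))
          (Submodule.mem_map_of_mem (f := toLin' (mat (φ g))) (Submodule.mem_comap.1 hw))
        rw [toLin'_apply, toLin'_apply, mulVec_mulVec] at this
        rw [mulVec_mulVec]
        convert this using 2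
        simp [φ, mat, mul_assoc])
      refine h1.imp (fun h => ?_) (fun h => ?_)
      · refine (Submodule.eq_bot_iff _).2 fun w hw => ?_
        have hmem : mat B⁻¹ *ᵥ w ∈ W.comap (toLin' (mat B)) := by
          rw [Submodule.mem_comap, toLin'_apply, mulVec_inv_mulVec]; exact hw
        rw [h, Submodule.mem_bot] at hmem
        simpa [mulVec_inv_mulVec] using congrArg (mat B *ᵥ ·) hmem
      · refine Submodule.eq_top_iff'.2 fun w => ?_
        have hmem : mat B⁻¹ *ᵥ w ∈ W.comap (toLin' (mat B)) := h ▸ Submodule.mem_top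
        rwa [Submodule.mem_comap, toLin'_apply, mulVec_inv_mulVec] at hmem
    · obtain ⟨c, hc⟩ := hPc.absIrred.2 (mat B⁻¹ * A * mat B) (forall_matrixSet.2 fun g hg => by
        have h1 := hA _ (mem_matrixSet (Subgroup.mem_map_of_mem φ.toMonoidHom hg))
        have e1 : mat (φ.toMonoidHom g) = mat B * mat g * mat B⁻¹ := by simp [φ, mat]
        rw [e1] at h1
        have h2 := congrArg (fun X => mat B⁻¹ * X * mat B) h1
        simp only [mul_assoc, mat_inv_mul, mul_one] at h2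
        simp only [← mul_assoc, mat_inv_mul, one_mul] at h2 ⊢
        exact h2)
      refine ⟨c, ?_⟩
      calc A = mat B * (mat B⁻¹ * A * mat B) * mat B⁻¹ := by
            simp only [← mul_assoc, mat_mul_inv, one_mul]; rw [mul_assoc, mat_mul_inv, mul_one]
        _ = c • 1 := by rw [hc, mul_smul_comm, mul_one, smul_mul_assoc, mat_mul_inv]
  let H₁ := M'.comap (incl E)
  have hS₁ : scalars (Fin 3) E ≤ H₁ := fun z hz => hM'S (mem_scalars_incl.2 hz)
  have hsplit : ∀ h ∈ M', ∃ z ∈ S₃, ∃ g ∈ H₁, z * incl E g = h := fun h hh => by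
    obtain ⟨z, hz, g, hg⟩ := exists_scalar_mul habs' hrat (hP'n h hh)
    refine ⟨z, hz, g, ?_, hg⟩
    show incl E g ∈ M'
    have : incl E g = z⁻¹ * h := by rw [← hg, inv_mul_cancel_left]
    rw [this]
    exact mul_mem (inv_mem (hM'S hz)) hh
  let θ : M ≃* M' := M.equivMapOfInjective _ φ.injective
  obtain ⟨e1⟩ : Nonempty (Cfsg.projQuot M ≃* Cfsg.projQuot M') := ⟨QuotientGroup.congr _ _ θ (by
    refine le_antisymm ?_ fun y hy => ?_
    · rintro _ ⟨x, hx, rfl⟩
      show φ (x : GL (Fin 3) F) ∈ S₃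
      rw [show φ (x : GL (Fin 3) F) = (x : GL (Fin 3) F) from conj_scalar hx]
      exact hx
    · refine ⟨θ.symm y, ?_, θ.apply_symm_apply y⟩
      have e2 : φ ((θ.symm y : M) : GL (Fin 3) F) = (y : GL (Fin 3) F) := congrArg Subtype.val (θ.apply_symm_apply y)
      show ((θ.symm y : M) : GL (Fin 3) F) ∈ S₃
      have : ((θ.symm y : M) : GL (Fin 3) F) = φ.symm (y : GL (Fin 3) F) := φ.injective (by rw [e2, MulEquiv.apply_symm_apply])
      rw [this, show φ.symm (y : GL (Fin 3) F) = (y : GL (Fin 3) F) from ?_]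
      · exact hy
      · apply φ.injective
        rw [MulEquiv.apply_symm_apply]
        exact (conj_scalar hy).symm)⟩
  let ρ : H₁ →* Cfsg.projQuot M' :=
    (QuotientGroup.mk' ((scalars (Fin 3) F).subgroupOf M')).comp
      (((incl E).comp H₁.subtype).codRestrict M' fun g => g.2)
  have hkρ : ρ.ker = (scalars (Fin 3) E).subgroupOf H₁ := by
    ext x
    rw [MonoidHom.mem_ker, Subgroup.mem_subgroupOf]
    exact (QuotientGroup.eq_one_iff _).trans (Subgroup.mem_subgroupOf.trans mem_scalars_incl)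
  have hsρ : Function.Surjective ρ := fun q => by
    obtain ⟨⟨h, hh⟩, rfl⟩ := QuotientGroup.mk'_surjective _ q
    obtain ⟨z, hz, g, hg, rfl⟩ := hsplit h hh
    refine ⟨⟨g, hg⟩, QuotientGroup.eq.2 (Subgroup.mem_subgroupOf.2 ?_)⟩
    show (incl E g)⁻¹ * (z * incl E g) ∈ S₃
    rwa [scalars_comm' hz, inv_mul_cancel_left]
  obtain ⟨e3⟩ := nonempty_equiv_of_ker ρ hkρ hsρ
  let eH : H ≃* Cfsg.projQuot H₁ := (e.trans e1).trans e3.symm
  have hsub₁ : Sub H₁ := sub_of_proj hS₁ eH.symm.toEquiv.nontrivial (hab.of_equiv eH)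
  let P₁ := P'.comap (incl E)
  have hP₁map : P₁.map (incl E) = P' := by
    rw [Subgroup.map_comap_eq, inf_eq_right]; exact hrat
  have hP₁n : Normed H₁ P₁ := fun h hh x hx => by
    show incl E (h * x * h⁻¹) ∈ P'
    rw [map_mul, map_mul, map_inv]; exact hP'n _ hh _ hx
  have hperf₁ : ⁅P₁, P₁⁆ = P₁ := Subgroup.map_injective incl_injective (by
    rw [Subgroup.map_commutator, hP₁map]
    show ⁅P.map φ.toMonoidHom, P.map φ.toMonoidHom⁆ = _
    rw [← Subgroup.map_commutator, hPc.perfect])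
  have hne₁ : ¬ P₁ ≤ scalars (Fin 3) E := fun h => by
    obtain ⟨g, hg⟩ := hPc.exists_not_scalar
    obtain ⟨g₁, hg₁⟩ := hrat (Subgroup.mem_map_of_mem φ.toMonoidHom g.2)
    have h1 : φ (g : GL (Fin 3) F) ∈ S₃ := by
      rw [← show incl E g₁ = φ (g : GL (Fin 3) F) from hg₁]
      exact mem_scalars_incl.2 (h (show incl E g₁ ∈ P' from hg₁ ▸ Subgroup.mem_map_of_mem _ g.2))
    refine hg (Subgroup.mem_subgroupOf.2 ?_)
    have h2 : φ (φ (g : GL (Fin 3) F)) = φ (g : GL (Fin 3) F) := conj_scalar h1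
    rw [φ.injective h2] at h1
    exact h1
  have hodd₁ : Odd (Fintype.card E) := by
    rw [Module.card_eq_pow_finrank (K := E) (V := F)] at hodd
    exact (Nat.odd_pow_iff Module.finrank_pos.ne').1 hodd
  obtain ⟨P₂, hP₂H, hP₂n, hP₂c, hP₂cent⟩ := hsub₁.exists_core hodd₁
  -- the core is `P₁`
  have hPeq : P₂ = P₁ := by
    have hP₁H : P₁ ≤ H₁ := fun x hx => by
      obtain ⟨g, hg, hge⟩ := hx
      exact ⟨g, hPM hg, hge⟩
    have hle : ⁅P₁, P₂⁆ ≤ P₁ ⊓ P₂ := le_inf
      (Subgroup.commutator_le.2 fun a ha b hb => by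
        rw [commutatorElement_def, mul_assoc a b, mul_assoc a]
        exact mul_mem ha (hP₁n b (hP₂H hb) a⁻¹ (inv_mem ha)))
      (Subgroup.commutator_le.2 fun a ha b hb => by
        rw [commutatorElement_def]
        exact mul_mem (hP₂n a (hP₁H ha) b hb) (inv_mem hb))
    have hns : ¬ P₁ ⊓ P₂ ≤ scalars (Fin 3) E := fun hs => hne₁ fun a ha => hP₂cent a (hP₁H ha) fun b hb => by
      rw [← commutatorElement_def]
      exact hs (hle (Subgroup.commutator_mem_commutator ha hb))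
    have key : P₂ ≤ P₁ := by
      have hKn : ((P₁ ⊓ P₂).subgroupOf P₂).Normal := Subgroup.normal_subgroupOf_of_le_normalizer
        (Normed.le_normalizer (fun g hg y hy => ⟨hP₁n g (hP₂H hg) y hy.1, mul_mem (mul_mem hg hy.2) (show g⁻¹ ∈ P₂ from inv_mem hg)⟩))
      have htop := hP₂c.eq_top_of_normal _ fun h => hns fun y hy => Subgroup.mem_subgroupOf.1
        (h (show (⟨y, hy.2⟩ : P₂) ∈ (P₁ ⊓ P₂).subgroupOf P₂ from hy))
      intro x hx
      exact (show (⟨x, hx⟩ : P₂) ∈ (P₁ ⊓ P₂).subgroupOf P₂ from htop ▸ Subgroup.mem_top _).1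
    refine le_antisymm key fun a ha => ?_
    -- `P₁` modulo `P₂` centralises `P₂` modulo scalars, and `P` is simple modulo scalars
    have hKn : ((P₂.map (incl E)).map φ.symm.toMonoidHom).subgroupOf P |>.Normal := by
      refine Subgroup.normal_subgroupOf_of_le_normalizer (Normed.le_normalizer ?_)
      rintro g hg _ ⟨_, ⟨y, hy, rfl⟩, rfl⟩
      obtain ⟨g₁, hg₁⟩ := hrat (Subgroup.mem_map_of_mem φ.toMonoidHom hg)
      refine ⟨incl E (g₁ * y * g₁⁻¹), Subgroup.mem_map_of_mem _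
        (hP₂n g₁ (hP₁H (show incl E g₁ ∈ P' from hg₁ ▸ Subgroup.mem_map_of_mem _ hg)) y hy), ?_⟩
      rw [map_mul, map_mul, map_inv]
      simp only [map_mul, map_inv]
      rw [show φ.symm.toMonoidHom (incl E g₁) = g from by rw [hg₁]; exact φ.symm_apply_apply g]
    have hsub : (P₂.map (incl E)).map φ.symm.toMonoidHom ≤ P := by
      rintro _ ⟨_, ⟨y, hy, rfl⟩, rfl⟩
      obtain ⟨g, hg, hge⟩ := (key hy : incl E y ∈ P')
      rw [← hge]; simpa using hg
    have htop := hPc.eq_top_of_normal _ fun h => by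
      obtain ⟨y, hy, hys⟩ := SetLike.not_le_iff_exists.1 (show ¬ P₂ ≤ scalars (Fin 3) E from
        fun h' => hns (inf_le_right.trans h'))
      refine hys (mem_scalars_incl.1 ?_)
      obtain ⟨g, hg, hge⟩ := (key hy : incl E y ∈ P')
      have hgs : g ∈ S₃ := Subgroup.mem_subgroupOf.1 (h (show (⟨g, hg⟩ : P) ∈
          ((P₂.map (incl E)).map φ.symm.toMonoidHom).subgroupOf P from
        ⟨incl E y, Subgroup.mem_map_of_mem _ hy, by rw [← hge]; exact φ.symm_apply_apply g⟩))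
      rw [← hge, show φ.toMonoidHom g = g from conj_scalar hgs]
      exact hgs
    obtain ⟨g, hg, hge⟩ := (ha : incl E a ∈ P')
    obtain ⟨_, ⟨y, hy, rfl⟩, hye⟩ := (show (⟨g, hg⟩ : P) ∈
      ((P₂.map (incl E)).map φ.symm.toMonoidHom).subgroupOf P from htop ▸ Subgroup.mem_top _)
    have : a = y := incl_injective (by
      rw [← hge, show g = φ.symm.toMonoidHom (incl E y) from hye.symm]; simp)
    exact this ▸ hy
  refine ⟨E, H₁, P₁, hsub₁, fun g hg => ?_, hPeq ▸ hP₂H, hP₁n, hPeq ▸ hP₂c, fun h hh hx => ?_,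
    fun E₀ hE₀ => ?_, ⟨eH⟩⟩
  · obtain ⟨c, hc⟩ := hdet' _ hg
    exact ⟨c, by rw [hc, det_incl]⟩
  · exact hP₂cent h hh (hPeq ▸ hx)
  · have h1 : E ≤ E₀.map E.subtype := Subfield.closure_le.2 fun _ ⟨g, hg, hgt⟩ => by
      subst hgt
      obtain ⟨g₁, hg₁⟩ := hrat (Subgroup.mem_map_of_mem φ.toMonoidHom hg)
      refine ⟨(mat g₁).trace, hE₀ g₁ (show incl E g₁ ∈ P' from hg₁ ▸ Subgroup.mem_map_of_mem _ hg), ?_⟩
      show ((mat g₁).trace : F) = (mat g).trace
      rw [← trace_incl, hg₁, show mat (φ.toMonoidHom g) = mat B * mat g * mat B⁻¹ by simp [φ, mat],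
        Matrix.trace_mul_comm, ← mul_assoc, mat_inv_mul, one_mul]
    refine top_unique fun e _ => ?_
    obtain ⟨e', he', hee⟩ := h1 e.2
    exact (Subtype.ext hee : e' = e) ▸ he'

end CfsgLib.PSLThreeSub
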