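import Cfsg.Agent.PSLThreeSub.Small.Six
import Cfsg.Agent.PSLThreeSub.Big
import Cfsg.Agent.AutPSL.AutOrder
import Cfsg.Agent.AutAlt.Basic
import Cfsg.Agent.S0255

/-!
# The subgroups with quotient `L₂(7)`, `A₆` or `A₇`

The automiser in dimension three is `L₂(7)`, `A₇`, or `A₆` with, for `p = 5`, possibly one outer
coset.
-/

set_option autoImplicit false
set_option linter.unusedSectionVars false
set_option linter.style.haveILetI false

namespace CfsgLib.PSLThreeSub

open Matrix Cfsg.Geo CfsgLib.Aschbacher PGLThree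

variable {E : Type*} [Field E] [Fintype E] {H P : Subgroup (GL (Fin 3) E)}

local notation "L32" => Matrix.ProjectiveSpecialLinearGroup (Fin 3) (ZMod 2)

/-- **`L₂(7)`**: no outer automorphism. -/
theorem seven_range (p : ℕ) [Fact p.Prime] [CharP E p] (hr : Red H P) (hp7 : p ≠ 7)
    (e : (P ⧸ Z P) ≃* L32) (ρ : H →* MulAut L32)
    (hρ : ∀ h x, ρ h (e (proj P x)) = e (proj P (conjP hr h x)))
    (hinn : ∀ t : L32, MulAut.conj t ∈ ρ.range) :
    ρ.range ≤ (MulAut.conj : L32 →* MulAut L32).range := by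
  classical
  set I := (MulAut.conj : L32 →* MulAut L32).range with hI
  have hle : I ≤ ρ.range := by rintro _ ⟨t, rfl⟩; exact hinn t
  have hIc : Nat.card I = Nat.card L32 := (Nat.card_congr (MonoidHom.ofInjective
    (conj_injective (center_eq_bot hr.core e))).toEquiv).symm
  have hA : Nat.card (MulAut L32) = 2 * Nat.card L32 := by
    haveI : Fact (Nat.Prime 2) := ⟨Nat.prime_two⟩
    rw [CfsgLib.AutPSL.card_aut_psl (p := 2) (f := 1) (F := ZMod 2) (by simp) le_rfl (by norm_num),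
      if_neg (by norm_num)]
    have h1 : Nat.card (ZMod 2 ≃+* ZMod 2) = 1 := Nat.card_eq_one_iff_exists.2
      ⟨RingEquiv.refl _, fun f => RingEquiv.ext fun x => by
        fin_cases x
        · exact map_zero f
        · exact map_one f⟩
    rw [h1, mul_one]
    congr 1
    have hsl : Nat.card (Matrix.SpecialLinearGroup (Fin 3) (ZMod 2)) = 168 := by
      rw [Nat.card_eq_fintype_card]; decide +kernel
    have hc : Subgroup.center (Matrix.SpecialLinearGroup (Fin 3) (ZMod 2)) = ⊥ :=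
      (Subgroup.eq_bot_iff_forall _).2 fun x hx => center_sl_three_two hx
    have hc' : Subgroup.center (GL (Fin 3) (ZMod 2)) = ⊥ := by
      refine (Subgroup.eq_bot_iff_forall _).2 fun g hg => ?_
      rw [Matrix.GeneralLinearGroup.center_eq_range_scalar] at hg
      obtain ⟨u, rfl⟩ := hg
      rw [show u = 1 from by revert u; decide, map_one]
    show Nat.card (GL (Fin 3) (ZMod 2) ⧸ Subgroup.center (GL (Fin 3) (ZMod 2))) =
      Nat.card (Matrix.SpecialLinearGroup (Fin 3) (ZMod 2) ⧸ Subgroup.center _)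
    rw [← Subgroup.index_eq_card, ← Subgroup.index_eq_card, hc, hc', Subgroup.index_bot,
      Subgroup.index_bot, hsl, Matrix.card_GL_field, ZMod.card]
    decide
  intro f hf
  by_contra hfI
  have htop : ρ.range = ⊤ := by
    refine Subgroup.eq_top_of_le_card _ (le_of_not_gt fun hlt => ?_)
    obtain ⟨k, hk⟩ := Subgroup.card_subgroup_dvd_card ρ.range
    obtain ⟨m, hm⟩ := Subgroup.card_dvd_of_le hle
    have hgt : Nat.card I < Nat.card ρ.range := by
      rcases lt_or_eq_of_le (Subgroup.card_le_of_le hle) with h | h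
      · exact h
      · exact absurd ((Subgroup.eq_of_le_of_card_ge hle h.ge).symm ▸ hf) hfI
    have hpos : 0 < Nat.card L32 := Nat.card_pos
    rw [hA, hm, hIc] at hk
    rw [hA, hm, hIc] at hlt
    rw [hm, hIc] at hgt
    have h1 : 1 < m := by
      by_contra h
      have : Nat.card L32 * m ≤ Nat.card L32 * 1 := Nat.mul_le_mul_left _ (by omega)
      omega
    have h2 : m < 2 := by
      by_contra h
      have : Nat.card L32 * 2 ≤ Nat.card L32 * m := Nat.mul_le_mul_left _ (by omega)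
      omega
    omega
  -- the inverse transpose sends a Singer element to a conjugate of its inverse
  let x : Matrix.SpecialLinearGroup (Fin 3) (ZMod 2) := ⟨!![0, 0, 1; 1, 0, 1; 0, 1, 0], by decide⟩
  let g : Matrix.SpecialLinearGroup (Fin 3) (ZMod 2) := ⟨!![0, 0, 1; 0, 1, 1; 1, 1, 0], by decide⟩
  have hx7 : x ^ 7 = 1 ∧ x ≠ 1 := ⟨Subtype.ext (by decide +kernel), fun h =>
    absurd (congrArg Subtype.val h) (by decide +kernel)⟩
  have hxx : g * CfsgLib.AutPSL.invTransSL x * g⁻¹ = x⁻¹ := by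
    apply Subtype.ext
    rw [Matrix.SpecialLinearGroup.coe_mul, Matrix.SpecialLinearGroup.coe_mul,
      CfsgLib.AutPSL.invTransSL_coe, Matrix.SpecialLinearGroup.coe_inv, Matrix.SpecialLinearGroup.coe_inv]
    decide +kernel
  obtain ⟨y, hy⟩ := QuotientGroup.mk'_surjective (Z P) (e.symm (QuotientGroup.mk x))
  have hy' : e (proj P y) = QuotientGroup.mk x := by
    rw [show proj P y = e.symm (QuotientGroup.mk x) from hy, e.apply_symm_apply]
  have hpy : proj P y ^ 7 = 1 :=
    e.injective (by rw [map_pow, hy', ← QuotientGroup.mk_pow, hx7.1, map_one]; rfl)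
  have hy1 : proj P y ≠ 1 := fun h => hx7.2 (center_sl_three_two
    ((QuotientGroup.eq_one_iff x).1 (hy'.symm.trans (by rw [h, map_one]))))
  have hys : IsConj (proj P y) (proj P y ^ 2) := by
    rcases sl_three_two_classes x with ⟨h, -⟩ | ⟨-, h⟩
    · exfalso
      refine hx7.2 ?_
      rcases h with h | h <;>
      · have h1 := Nat.dvd_gcd (orderOf_dvd_of_pow_eq_one h) (orderOf_dvd_of_pow_eq_one hx7.1)
        simpa using h1
    · have h2 := (QuotientGroup.mk' (Subgroup.center _)).map_isConj h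
      rw [map_pow] at h2
      have h3 := e.symm.toMonoidHom.map_isConj h2
      rw [map_pow] at h3
      show IsConj (QuotientGroup.mk' (Z P) y) ((QuotientGroup.mk' (Z P) y) ^ 2)
      rw [hy]; exact h3
  obtain ⟨g₀, g1, g2, g7⟩ := hr.core.exists_seven_lift hpy hys
  have hθ : CfsgLib.AutPSL.toPSLAut CfsgLib.AutPSL.invTransSL ∈ ρ.range := htop ▸ Subgroup.mem_top _
  have ht : trc g₀ = trc g₀⁻¹ := trc_eq_of_action hr e ρ hρ hθ (n := 7) (by norm_num) g7
    (by rw [inv_pow, g7, inv_one]) (IsConj.symm (isConj_iff.2 ⟨QuotientGroup.mk g, by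
      rw [map_inv, map_inv, g1, hy', CfsgLib.AutPSL.toPSLAut_mk, ← QuotientGroup.mk_inv,
        ← QuotientGroup.mk_inv, ← QuotientGroup.mk_mul, ← QuotientGroup.mk_mul, hxx]⟩))
  exact hy1 (by rw [← g1, eq_one_of_trc p hr.core (n := 7) (by norm_num) (by norm_num) (Ne.symm hp7) g7
    ht.symm (trc_conj g2).symm, map_one])

local notation "A7" => alternatingGroup (Fin 7)

/-- **`A₇`**: no outer automorphism. -/
theorem alt_seven_range (p : ℕ) [Fact p.Prime] [CharP E p] (hr : Red H P) (hp7 : p ≠ 7)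
    (e : (P ⧸ Z P) ≃* A7) (ρ : H →* MulAut A7)
    (hρ : ∀ h x, ρ h (e (proj P x)) = e (proj P (conjP hr h x)))
    (hinn : ∀ t : A7, MulAut.conj t ∈ ρ.range) :
    ρ.range ≤ (MulAut.conj : A7 →* MulAut A7).range := by
  have hbij := AutAlt.conjNormal_bijective (α := Fin 7) (by simp) (by simp)
  have heven : ∀ π : Equiv.Perm (Fin 7), ∀ hπ : Equiv.Perm.sign π = 1,
      MulAut.conjNormal π = MulAut.conj (⟨π, Equiv.Perm.mem_alternatingGroup.2 hπ⟩ : A7) := fun π hπ =>
    MulEquiv.ext fun a => Subtype.ext (by rw [MulAut.conjNormal_apply, MulAut.conj_apply]; rfl)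
  intro f hf
  obtain ⟨π, rfl⟩ := hbij.2 f
  rcases Int.units_eq_one_or (Equiv.Perm.sign π) with hπ | hπ
  · exact ⟨_, (heven π hπ).symm⟩
  exfalso
  -- all permutations are induced
  have hall : ∀ q : Equiv.Perm (Fin 7), MulAut.conjNormal q ∈ ρ.range := by
    intro q
    rcases Int.units_eq_one_or (Equiv.Perm.sign q) with hq | hq
    · rw [heven q hq]; exact hinn _
    · have hs : Equiv.Perm.sign (π⁻¹ * q) = 1 := by rw [map_mul, map_inv, hπ, hq]; decide
      rw [show q = π * (π⁻¹ * q) by group, map_mul, heven _ hs]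
      exact mul_mem hf (hinn _)
  let x : A7 := ⟨c[0, 1, 2, 3, 4, 5, 6], Equiv.Perm.mem_alternatingGroup.2 (by decide +kernel)⟩
  let q : Equiv.Perm (Fin 7) := Equiv.swap 1 6 * Equiv.swap 2 5 * Equiv.swap 3 4
  have hx7 : x ^ 7 = 1 ∧ x ^ 4 ≠ 1 ∧ x ^ 5 ≠ 1 ∧ x ^ 6 ≠ 1 ∧ x ≠ 1 := by decide +kernel
  have hqx : MulAut.conjNormal q x = x⁻¹ := Subtype.ext (by
    rw [MulAut.conjNormal_apply]; decide +kernel)
  obtain ⟨y, hy⟩ := QuotientGroup.mk'_surjective (Z P) (e.symm x)
  have hy' : e (proj P y) = x := by rw [show proj P y = e.symm x from hy, e.apply_symm_apply]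
  have hys : IsConj (proj P y) (proj P y ^ 2) := by
    have hsq : IsConj x (x ^ 2) := by
      rcases alt_seven_classes x with ⟨h, -⟩ | ⟨-, h⟩
      · rcases h with h | h | h
        exacts [absurd h hx7.2.1, absurd h hx7.2.2.1, absurd h hx7.2.2.2.1]
      · exact h
    have h3 := e.symm.toMonoidHom.map_isConj hsq
    rw [map_pow] at h3
    show IsConj (QuotientGroup.mk' (Z P) y) ((QuotientGroup.mk' (Z P) y) ^ 2)
    rw [hy]; exact h3
  obtain ⟨g₀, g1, g2, g7⟩ := hr.core.exists_seven_lift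
    (e.injective (by rw [map_pow, hy', hx7.1, map_one])) hys
  have ht : trc g₀ = trc g₀⁻¹ := trc_eq_of_action hr e ρ hρ (hall q) (n := 7) (by norm_num) g7
    (by rw [inv_pow, g7, inv_one]) (by rw [map_inv, map_inv, g1, hy', hqx])
  exact hx7.2.2.2.2 (by
    rw [← hy', ← g1, eq_one_of_trc p hr.core (n := 7) (by norm_num) (by norm_num) (Ne.symm hp7) g7
      ht.symm (trc_conj g2).symm, map_one, map_one])

theorem pow_mod_thirty {r : ℕ} (h : r % 30 = 1 ∨ r % 30 = 19) (m : ℕ) :
    r ^ m % 30 = 1 ∨ r ^ m % 30 = 19 := by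
  induction m with
  | zero => exact Or.inl (by norm_num)
  | succ m ih =>
    rw [pow_succ, Nat.mul_mod]
    rcases h with h | h <;> rcases ih with i | i <;> rw [h, i] <;> norm_num

/-- **The small quotients.** -/
theorem concl_small {F : Type*} [Field F] [Fintype F] (p α : ℕ) [hp : Fact p.Prime] (hp2 : p ≠ 2)
    (hF : Fintype.card F = p ^ α) (E : Subfield F) [Fintype E] [CharP E p] {H P : Subgroup (GL (Fin 3) E)}
    (hr : Red H P) (hc : PGLThree.Ctx P)
    (htype : (Nonempty ((P ⧸ PGLThree.Z P) ≃* Matrix.ProjectiveSpecialLinearGroup (Fin 3) (ZMod 2)) ∧ PGLThree.Z P = ⊥) ∨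
      (Nonempty ((P ⧸ PGLThree.Z P) ≃* alternatingGroup (Fin 6)) ∧ PGLThree.Z P ≠ ⊥ ∧ p ≠ 3) ∨
      (Nonempty ((P ⧸ PGLThree.Z P) ≃* alternatingGroup (Fin 7)) ∧ p = 5)) :
    Concl p α (Cfsg.projQuot H) := by
  classical
  obtain ⟨γ, -, hγα, hE⟩ := exists_degree p α hF E
  have hdeg : ∀ n, Fintype.card E = p ^ n → n ∣ α := fun n h => by
    rwa [Nat.pow_right_injective hp.out.two_le (h.symm.trans hE)]
  have hodd : p % 2 = 1 := hp.out.eq_two_or_odd.resolve_left hp2
  rcases htype with ⟨⟨e⟩, hZ⟩ | ⟨⟨e⟩, hZ, hp3⟩ | ⟨⟨e⟩, hp5⟩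
  · obtain ⟨hp7, hcase⟩ := endgame_seven p hc hZ e
    obtain ⟨ρ, hker, hρ, hinn⟩ := exists_action hr e
    obtain ⟨f⟩ := equiv_of_inner (center_eq_bot hr.core e) ρ hker hinn
      (seven_range p hr hp7 e ρ hρ hinn)
    have hmod : (p ^ α) ^ 3 % 7 = 1 := by
      rcases hcase with ⟨h, -, hcard⟩ | ⟨h, hcard, -⟩
      · have h3 : p ^ 3 % 7 = 1 := by
          rw [Nat.pow_mod]; rcases h with h | h | h <;> rw [h]
        rw [← pow_mul, mul_comm, pow_mul, Nat.pow_mod, h3, one_pow]; rfl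
      · obtain ⟨m, rfl⟩ := hdeg 2 hcard
        have h6 : p ^ 6 % 7 = 1 := by
          rw [Nat.pow_mod]; rcases h with h | h | h <;> rw [h]
        rw [← pow_mul, show 2 * m * 3 = 6 * m by ring, pow_mul, Nat.pow_mod, h6, one_pow]; rfl
    haveI : Fact (Nat.Prime 7) := ⟨by norm_num⟩
    obtain ⟨i⟩ := Cfsg.Agent.S0255.result (F := ZMod 7) (K := ZMod 2) (ZMod.card 7) (ZMod.card 2)
    exact Or.inr (Or.inr (Or.inr (Or.inr (Or.inr (Or.inr (Or.inl
      ⟨hmod, ZMod 7, inferInstance, inferInstance, ZMod.card 7, ⟨f.trans i.symm⟩⟩))))))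
  · obtain ⟨ρ, hker, hρ, hinn⟩ := exists_action hr e
    obtain ⟨htwo, hinner⟩ := six_range p hr hp3 e ρ hρ hinn
    have hcase := endgame_six p hc hZ hp3 e
    rcases eq_or_ne p 5 with hp5 | hp5
    · have hev : Even α := by
        rcases hcase with ⟨h, -⟩ | ⟨-, hcard, -⟩ | ⟨h, -⟩
        · omega
        · exact even_iff_two_dvd.2 (hdeg 2 hcard)
        · omega
      refine Or.inr (Or.inr (Or.inr (Or.inr (Or.inr (Or.inr (Or.inr (Or.inl ⟨hp5, hev, ?_⟩)))))))
      by_cases hle : ρ.range ≤ (MulAut.conj : alternatingGroup (Fin 6) →* MulAut _).range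
      · exact Or.inl (equiv_of_inner (center_eq_bot hr.core e) ρ hker hinn hle)
      · obtain ⟨f, hf, hfn⟩ := SetLike.not_le_iff_exists.1 hle
        exact Or.inr (Or.inr (index_two_of_outer (center_eq_bot hr.core e) ρ hker hinn hf hfn
          fun g hg hgn => htwo f hf hfn g hg hgn))
    · refine Or.inr (Or.inr (Or.inr (Or.inr (Or.inr (Or.inr (Or.inr (Or.inr ⟨?_,
        equiv_of_inner (center_eq_bot hr.core e) ρ hker hinn (hinner hp5)⟩)))))))
      have h3 : p % 3 ≠ 0 := fun h => hp3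
        ((Nat.prime_dvd_prime_iff_eq Nat.prime_three hp.out).1 (Nat.dvd_of_mod_eq_zero h)).symm
      have h5 : p % 5 ≠ 0 := fun h => hp5
        ((Nat.prime_dvd_prime_iff_eq (by norm_num) hp.out).1 (Nat.dvd_of_mod_eq_zero h)).symm
      have hsq : Fintype.card E = p ^ 2 → (p ^ α % 30 = 1 ∨ p ^ α % 30 = 19) := by
        intro hcard
        obtain ⟨m, rfl⟩ := hdeg 2 hcard
        rw [pow_mul]
        refine pow_mod_thirty ?_ m
        rw [Nat.pow_mod]
        have hlt := Nat.mod_lt p (show 30 > 0 by norm_num)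
        have e2 : p % 30 % 2 = 1 := by omega
        have e3 : p % 30 % 3 ≠ 0 := by omega
        have e5 : p % 30 % 5 ≠ 0 := by omega
        generalize p % 30 = r at *
        interval_cases r <;> first | omega | norm_num
      rcases hcase with ⟨h, hcard⟩ | ⟨-, hcard, -⟩ | ⟨-, hcard, -⟩
      · exact pow_mod_thirty (by omega) α
      · exact hsq hcard
      · exact hsq hcard
  · obtain ⟨hcard, -⟩ := endgame_alt_seven p hc hp5 e
    obtain ⟨ρ, hker, hρ, hinn⟩ := exists_action hr e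
    obtain ⟨f⟩ := equiv_of_inner (center_eq_bot hr.core e) ρ hker hinn
      (alt_seven_range p hr (by omega) e ρ hρ hinn)
    exact Or.inr (Or.inr (Or.inr (Or.inr (Or.inr (Or.inr (Or.inr (Or.inl
      ⟨hp5, even_iff_two_dvd.2 (hdeg 2 hcard), Or.inr (Or.inl ⟨f⟩)⟩)))))))

end CfsgLib.PSLThreeSub
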